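import Cfsg.Agent.H440.TwoGen.Basic
import Cfsg.Agent.H136.TwoGen
import Cfsg.Agent.LieRecognition.FieldSemilinear
import Cfsg.Agent.H137.SpTransfer
import Cfsg.Agent.H490.Der_m3
import Cfsg.Agent.S0752
import Cfsg.Agent.FastGrp
import Cfsg.Agent.Prune
set_option linter.all false
prune_inst 0x7fffecfbfefa79dfdfff7e7fa69ccffdffbb3fffe6dfe9cbffe061ff8bdf5b16cdc92bad8bea3afc1ef6621410fa7b43ffffffffe26ff87ffffdbff41ffbff8ffdf7b508519488340fbc0fff03f0778e7f3fffffffffffffffffffffffffffbeffbfffffffff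
open scoped Cfsg.Agent.FastGrp

-- part: H484/GenSpCalc
section
/-!
# Semisimilarities of a symplectic space (TEAM GEN, helper484)

* `Semi f g σ μ` : `g (c v) = σ(c) g v`, `f (g u) (g v) = μ σ(f u v)`;
* `twoGen_of_lift` : 2-generation of the groups between `Sp` and `ΓSp` from an explicit pair for each coset pair;
* the calculus of the Siegel transformations `T u w : v ↦ v + f v u • w + f v w • u`.
-/

set_option autoImplicit false

namespace Cfsg.Agent.H484.GenSp

open Cfsg.Agent.H440.TwoGen Subgroup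

section

variable {F V : Type*} [Field F] [AddCommGroup V] [Module F V] {f : V → V → F}

/-- `g` is a semisimilarity of the form `f` -/
structure Semi (f : V → V → F) (g : Equiv.Perm V) (σ : F ≃+* F) (μ : F) : Prop where
  add : ∀ u v, g (u + v) = g u + g v
  smul : ∀ (c : F) (v : V), g (c • v) = σ c • g v
  form : ∀ u v, f (g u) (g v) = μ * σ (f u v)

theorem Semi.one : Semi f (1 : Equiv.Perm V) (1 : F ≃+* F) 1 where
  add _ _ := rfl
  smul _ _ := rfl
  form u v := by
    rw [one_mul]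
    rfl

theorem Semi.mul {g g' : Equiv.Perm V} {σ σ' : F ≃+* F} {μ μ' : F} (h : Semi f g σ μ) (h' : Semi f g' σ' μ') :
    Semi f (g * g') (σ * σ') (μ * σ μ') where
  add u v := by
    show g (g' (u + v)) = g (g' u) + g (g' v)
    rw [h'.add, h.add]
  smul c v := by
    show g (g' (c • v)) = (σ * σ') c • g (g' v)
    rw [h'.smul, h.smul]
    rfl
  form u v := by
    show f (g (g' u)) (g (g' v)) = μ * σ μ' * σ (σ' (f u v))
    rw [h.form, h'.form, map_mul, mul_assoc]

theorem Semi.inv {g : Equiv.Perm V} {σ : F ≃+* F} {μ : F} (h : Semi f g σ μ) (hμ : μ ≠ 0) :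
    Semi f g⁻¹ σ⁻¹ (σ⁻¹ μ⁻¹) where
  add u v := by
    apply g.injective
    have e1 : ∀ x, g (g⁻¹ x) = x := fun x => Equiv.apply_symm_apply g x
    rw [e1, h.add, e1, e1]
  smul c v := by
    apply g.injective
    have e1 : ∀ x, g (g⁻¹ x) = x := fun x => Equiv.apply_symm_apply g x
    rw [e1, h.smul, e1]
    have e2 : σ (σ⁻¹ c) = c := σ.apply_symm_apply c
    rw [e2]
  form u v := by
    apply σ.injective
    have e1 : ∀ x, g (g⁻¹ x) = x := fun x => Equiv.apply_symm_apply g x
    have e2 : ∀ c, σ (σ⁻¹ c) = c := σ.apply_symm_apply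
    rw [map_mul, e2, e2]
    have h1 := h.form (g⁻¹ u) (g⁻¹ v)
    rw [e1, e1] at h1
    rw [h1, inv_mul_cancel_left₀ hμ]

theorem Semi.pow {g : Equiv.Perm V} {σ : F ≃+* F} {μ : F} (h : Semi f g σ μ) (hμ : μ ≠ 0) (n : ℕ) :
    ∃ ν, ν ≠ 0 ∧ Semi f (g ^ n) (σ ^ n) ν := by
  induction n with
  | zero => exact ⟨1, one_ne_zero, by rw [pow_zero, pow_zero]; exact Semi.one⟩
  | succ n ih =>
    obtain ⟨ν, hν, h1⟩ := ih
    refine ⟨ν * (σ ^ n) μ, mul_ne_zero hν ?_, ?_⟩
    · exact fun h0 => hμ ((map_eq_zero _).1 h0)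
    · rw [pow_succ, pow_succ]
      exact h1.mul h

theorem Semi.pow_lin {g : Equiv.Perm V} {μ : F} (h : Semi f g 1 μ) (n : ℕ) : Semi f (g ^ n) 1 (μ ^ n) := by
  induction n with
  | zero => rw [pow_zero, pow_zero]; exact Semi.one
  | succ n ih =>
    rw [pow_succ, pow_succ]
    have := ih.mul h
    rwa [mul_one] at this

/-- the pair of cosets `(δ, 1)`, `(μ, σ)` lifts to a pair generating at least `Sp` -/
def LiftP (f : V → V → F) (δ : F) (σ : F ≃+* F) (μ : F) : Prop :=
  ∃ h y : Equiv.Perm V, Semi f h 1 δ ∧ Semi f y σ μ ∧ ∀ g : Equiv.Perm V, Semi f g 1 1 → g ∈ _root_.Subgroup.closure ({h, y} : Set (Equiv.Perm V))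

/-- from generation inside the ambient group -/
theorem twoGen_of_le {X : Type*} [Group X] {S : Subgroup X} {a b : X} (ha : a ∈ S) (hb : b ∈ S)
    (h : S ≤ _root_.Subgroup.closure ({a, b} : Set X)) : TwoGen ↥S :=
  Cfsg.Agent.H136.TwoGen.of_ambient S ⟨a, b, ha, hb, h⟩

variable (H : Subgroup (Equiv.Perm V))

/-- the multipliers of the linear elements of `H` -/
def mults (f : V → V → F) (H : Subgroup (Equiv.Perm V)) : Subgroup Fˣ where
  carrier := {δ | ∃ g ∈ H, Semi f g 1 (δ : F)}
  mul_mem' := by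
    rintro a b ⟨g, hg, h⟩ ⟨g', hg', h'⟩
    exact ⟨g * g', H.mul_mem hg hg', by
      have := h.mul h'
      rwa [mul_one] at this⟩
  one_mem' := ⟨1, H.one_mem, by
    rw [Units.val_one]
    exact Semi.one⟩
  inv_mem' := by
    rintro a ⟨g, hg, h⟩
    refine ⟨g⁻¹, H.inv_mem hg, ?_⟩
    have := h.inv a.ne_zero
    rw [inv_one] at this
    have e : ((a⁻¹ : Fˣ) : F) = (1 : F ≃+* F) (a : F)⁻¹ := by
      rw [Units.val_inv_eq_inv_val]
      rfl
    rw [e]
    exact this

/-- the field automorphisms of the elements of `H` -/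
def auts (f : V → V → F) (H : Subgroup (Equiv.Perm V)) : Subgroup (F ≃+* F) where
  carrier := {σ | ∃ g ∈ H, ∃ μ : F, μ ≠ 0 ∧ Semi f g σ μ}
  mul_mem' := by
    rintro a b ⟨g, hg, μ, hμ, h⟩ ⟨g', hg', μ', hμ', h'⟩
    exact ⟨g * g', H.mul_mem hg hg', _, mul_ne_zero hμ (fun h0 => hμ' ((map_eq_zero _).1 h0)), h.mul h'⟩
  one_mem' := ⟨1, H.one_mem, 1, one_ne_zero, Semi.one⟩
  inv_mem' := by
    rintro a ⟨g, hg, μ, hμ, h⟩
    exact ⟨g⁻¹, H.inv_mem hg, _, (fun h0 => inv_ne_zero hμ ((map_eq_zero _).1 h0)), h.inv hμ⟩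

variable {H}

/-- **2-generation from the lifting property**, general version. -/
theorem twoGen_of_lift [Finite F] (hSp : ∀ g : Equiv.Perm V, Semi f g 1 1 → g ∈ H)
    (hH : ∀ g ∈ H, ∃ (σ : F ≃+* F) (μ : F), μ ≠ 0 ∧ Semi f g σ μ)
    (hL : ∀ (δ : F) (σ : F ≃+* F) (μ : F), δ ≠ 0 → μ ≠ 0 → LiftP f δ σ μ) : TwoGen ↥H := by
  have hc : IsCyclic (F ≃+* F) := Cfsg.Agent.LieRecognition.FieldSemilinear.isCyclic_ringAut F
  have hfin : Finite (F ≃+* F) := DFunLike.finite _
  obtain ⟨⟨δ, hδ⟩, hgen⟩ := IsCyclic.exists_generator (α := ↥(mults f H))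
  obtain ⟨⟨σ, hσ⟩, hgen'⟩ := IsCyclic.exists_generator (α := ↥(auts f H))
  obtain ⟨g₁, hg₁, h₁⟩ := hδ
  obtain ⟨g₂, hg₂, μ, hμ, h₂⟩ := hσ
  obtain ⟨h, y, hh, hy, hle⟩ := hL δ σ μ δ.ne_zero hμ
  have hhH : h ∈ H := by
    have h3 := h₁.mul (hh.inv δ.ne_zero)
    have h4 : Semi f (g₁ * h⁻¹) 1 1 := by
      have e : (δ : F) * (1 : F ≃+* F) ((1 : F ≃+* F)⁻¹ (δ : F)⁻¹) = 1 := mul_inv_cancel₀ δ.ne_zero
      rw [e] at h3
      exact h3
    have h5 := H.mul_mem (H.inv_mem (hSp _ h4)) hg₁
    rwa [mul_inv_rev, inv_inv, inv_mul_cancel_right] at h5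
  have hyH : y ∈ H := by
    have h3 := h₂.mul (hy.inv hμ)
    have h4 : Semi f (g₂ * y⁻¹) 1 1 := by
      have e : μ * σ (σ⁻¹ μ⁻¹) = 1 := by
        have : σ (σ⁻¹ μ⁻¹) = μ⁻¹ := σ.apply_symm_apply _
        rw [this, mul_inv_cancel₀ hμ]
      rw [e, mul_inv_cancel] at h3
      exact h3
    have h5 := H.mul_mem (H.inv_mem (hSp _ h4)) hg₂
    rwa [mul_inv_rev, inv_inv, inv_mul_cancel_right] at h5
  refine twoGen_of_le hhH hyH ?_
  intro g hg
  set C := _root_.Subgroup.closure ({h, y} : Set (Equiv.Perm V)) with hC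
  have hhC : h ∈ C := _root_.Subgroup.subset_closure (by simp)
  have hyC : y ∈ C := _root_.Subgroup.subset_closure (by simp)
  -- remove the field automorphism
  obtain ⟨σ', μ', hμ', hg'⟩ := hH g hg
  obtain ⟨n, hn⟩ := (mem_powers_iff_mem_zpowers (x := (⟨σ, ⟨g₂, hg₂, μ, hμ, h₂⟩⟩ : ↥(auts f H)))).2
    (hgen' ⟨σ', ⟨g, hg, μ', hμ', hg'⟩⟩)
  have hn' : σ ^ n = σ' := congrArg Subtype.val hn
  obtain ⟨ν, hν, hyn⟩ := hy.pow hμ n
  have h6 := hg'.mul (hyn.inv hν)
  rw [hn', mul_inv_cancel] at h6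
  set κ := μ' * σ' (σ'⁻¹ ν⁻¹) with hκ
  have hκ0 : κ ≠ 0 := by
    have : σ' (σ'⁻¹ ν⁻¹) = ν⁻¹ := σ'.apply_symm_apply _
    rw [hκ, this]
    exact mul_ne_zero hμ' (inv_ne_zero hν)
  have h7 : g * (y ^ n)⁻¹ ∈ H := H.mul_mem hg (H.inv_mem (H.pow_mem hyH n))
  obtain ⟨l, hl⟩ := (mem_powers_iff_mem_zpowers (x := (⟨δ, ⟨g₁, hg₁, h₁⟩⟩ : ↥(mults f H)))).2
    (hgen ⟨Units.mk0 κ hκ0, ⟨_, h7, h6⟩⟩)
  have hl' : (δ : F) ^ l = κ := by
    have := congrArg (fun x : ↥(mults f H) => ((x : Fˣ) : F)) hl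
    simpa using this
  have h8 := h6.mul ((hh.pow_lin l).inv (pow_ne_zero l δ.ne_zero))
  have h9 : Semi f (g * (y ^ n)⁻¹ * (h ^ l)⁻¹) 1 1 := by
    have e : κ * (1 : F ≃+* F) ((1 : F ≃+* F)⁻¹ ((δ : F) ^ l)⁻¹) = 1 := by
      rw [hl']
      exact mul_inv_cancel₀ hκ0
    rw [e] at h8
    exact h8
  have h10 := C.mul_mem (C.mul_mem (hle _ h9) (C.pow_mem hhC l)) (C.pow_mem hyC n)
  rwa [inv_mul_cancel_right, inv_mul_cancel_right] at h10

/-- **2-generation from the lifting property**, prime fields. -/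
theorem twoGen_of_lift_prime [Finite F] (hF : ∀ σ : F ≃+* F, σ = 1) (hSp : ∀ g : Equiv.Perm V, Semi f g 1 1 → g ∈ H)
    (hH : ∀ g ∈ H, ∃ (σ : F ≃+* F) (μ : F), μ ≠ 0 ∧ Semi f g σ μ)
    (hL : ∀ μ : F, μ ≠ 0 → LiftP f 1 1 μ) : TwoGen ↥H := by
  obtain ⟨⟨δ, hδ⟩, hgen⟩ := IsCyclic.exists_generator (α := ↥(mults f H))
  obtain ⟨g₁, hg₁, h₁⟩ := hδ
  obtain ⟨h, y, hh, hy, hle⟩ := hL δ δ.ne_zero
  have hhH : h ∈ H := hSp h hh
  have hyH : y ∈ H := by
    have h3 := h₁.mul (hy.inv δ.ne_zero)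
    have h4 : Semi f (g₁ * y⁻¹) 1 1 := by
      have e : (δ : F) * (1 : F ≃+* F) ((1 : F ≃+* F)⁻¹ (δ : F)⁻¹) = 1 := mul_inv_cancel₀ δ.ne_zero
      rw [e] at h3
      exact h3
    have h5 := H.mul_mem (H.inv_mem (hSp _ h4)) hg₁
    rwa [mul_inv_rev, inv_inv, inv_mul_cancel_right] at h5
  refine twoGen_of_le hhH hyH ?_
  intro g hg
  set C := _root_.Subgroup.closure ({h, y} : Set (Equiv.Perm V)) with hC
  have hyC : y ∈ C := _root_.Subgroup.subset_closure (by simp)
  obtain ⟨σ', μ', hμ', hg'⟩ := hH g hg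
  rw [hF σ'] at hg'
  obtain ⟨l, hl⟩ := (mem_powers_iff_mem_zpowers (x := (⟨δ, ⟨g₁, hg₁, h₁⟩⟩ : ↥(mults f H)))).2
    (hgen ⟨Units.mk0 μ' hμ', ⟨_, hg, hg'⟩⟩)
  have hl' : (δ : F) ^ l = μ' := by
    have := congrArg (fun x : ↥(mults f H) => ((x : Fˣ) : F)) hl
    simpa using this
  have h8 := hg'.mul ((hy.pow_lin l).inv (pow_ne_zero l δ.ne_zero))
  have h9 : Semi f (g * (y ^ l)⁻¹) 1 1 := by
    have e : μ' * (1 : F ≃+* F) ((1 : F ≃+* F)⁻¹ ((δ : F) ^ l)⁻¹) = 1 := by
      rw [hl']
      exact mul_inv_cancel₀ hμ'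
    rw [e] at h8
    exact h8
  have h10 := C.mul_mem (hle _ h9) (C.pow_mem hyC l)
  rwa [inv_mul_cancel_right] at h10

end

/-! ### The calculus of Siegel transformations -/

section siegel

variable {F V : Type*} [Field F] [AddCommGroup V] [Module F V] {f : LinearMap.BilinForm F V}

/-- the form as a function -/
def fn (f : LinearMap.BilinForm F V) : V → V → F := fun u v => f u v

/-- the Siegel transformation -/
def T (f : LinearMap.BilinForm F V) (u w v : V) : V := v + f v u • w + f v w • u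

/-- the transvection -/
def t (f : LinearMap.BilinForm F V) (c : F) (u v : V) : V := v + (c * f v u) • u

theorem T_comm (u w v : V) : T f u w v = T f w u v := by
  simp only [T]
  abel

theorem T_smul (c : F) (u w v : V) : T f (c • u) w v = T f u (c • w) v := by
  simp only [T, map_smul, smul_smul, smul_eq_mul, mul_comm c]

theorem t_smul (c a : F) (u v : V) : t f c (a • u) v = t f (a ^ 2 * c) u v := by
  simp only [t, map_smul, smul_smul, smul_eq_mul]
  congr 2
  ring

/-- `C` contains an element acting as `φ` -/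
def Has (C : Subgroup (Equiv.Perm V)) (φ : V → V) : Prop := ∃ g ∈ C, ∀ v, g v = φ v

section has

omit [AddCommGroup V]

variable {C : Subgroup (Equiv.Perm V)} {φ ψ χ : V → V}

theorem Has.congr (h : Has C φ) (e : ∀ v, φ v = ψ v) : Has C ψ := by
  obtain ⟨g, hg, h⟩ := h
  exact ⟨g, hg, fun v => (h v).trans (e v)⟩

theorem Has.mul (h : Has C φ) (h' : Has C ψ) (e : ∀ v, φ (ψ v) = χ v) : Has C χ := by
  obtain ⟨g, hg, h⟩ := h
  obtain ⟨g', hg', h'⟩ := h'
  refine ⟨g * g', C.mul_mem hg hg', fun v => ?_⟩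
  show g (g' v) = χ v
  rw [h', h, e]

theorem Has.one (e : ∀ v, φ v = v) : Has C φ := ⟨1, C.one_mem, fun v => (e v).symm⟩

/-- `χ ∘ ψ = φ` -/
theorem Has.div (h : Has C φ) (h' : Has C ψ) (e : ∀ v, χ (ψ v) = φ v) : Has C χ := by
  obtain ⟨g, hg, h⟩ := h
  obtain ⟨g', hg', h'⟩ := h'
  refine ⟨g * g'⁻¹, C.mul_mem hg (C.inv_mem hg'), fun v => ?_⟩
  show g (g'⁻¹ v) = χ v
  have e1 : g' (g'⁻¹ v) = v := Equiv.apply_symm_apply g' v
  rw [h, ← e, ← h', e1]

/-- `ψ ∘ χ = φ` -/
theorem Has.div' (h : Has C φ) (h' : Has C ψ) (e : ∀ v, ψ (χ v) = φ v) : Has C χ := by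
  obtain ⟨g, hg, h⟩ := h
  obtain ⟨g', hg', h'⟩ := h'
  refine ⟨g'⁻¹ * g, C.mul_mem (C.inv_mem hg') hg, fun v => ?_⟩
  show g'⁻¹ (g v) = χ v
  rw [h, ← e, ← h']
  exact Equiv.symm_apply_apply g' _

end has

theorem T_add (hf : f.IsAlt) {u w w' : V} (h : f u w = 0) (h' : f u w' = 0) (v : V) :
    T f u w (T f u w' v) = t f (f w' w) u (T f u (w + w') v) := by
  have hs : ∀ x y, f x y = - f y x := fun x y => (hf.neg_eq y x).symm ▸ rfl
  have h1 : f w' u = 0 := by rw [hs, h', neg_zero]
  have h2 : f w u = 0 := by rw [hs, h, neg_zero]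
  have h3 : f u u = 0 := hf u
  simp only [T, t, map_add, map_smul, LinearMap.add_apply, LinearMap.smul_apply, smul_eq_mul, h, h', h1, h2, h3]
  module

/-- all transvections with centre `u` are in `C` -/
def X (f : LinearMap.BilinForm F V) (C : Subgroup (Equiv.Perm V)) (u : V) : Prop := ∀ c : F, Has C (t f c u)

/-- all Siegel transformations with `u`, `c w` are in `C` -/
def TT (f : LinearMap.BilinForm F V) (C : Subgroup (Equiv.Perm V)) (u w : V) : Prop := ∀ c : F, Has C (T f u (c • w))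

variable {C : Subgroup (Equiv.Perm V)} {g : Equiv.Perm V} {σ : F ≃+* F} {μ : F} {u w x : V}

theorem t_conj (h : Semi (fn f) g σ μ) (hμ : μ ≠ 0) (c : F) (u v : V) :
    g (t f c u v) = t f (μ⁻¹ * σ c) (g u) (g v) := by
  have h1 : f (g v) (g u) = μ * σ (f v u) := h.form v u
  simp only [t]
  rw [h.add, h.smul, h1, map_mul]
  congr 2
  field_simp

theorem T_conj (h : Semi (fn f) g σ μ) (hμ : μ ≠ 0) (u w v : V) :
    g (T f u w v) = T f (μ⁻¹ • g u) (g w) (g v) := by
  have h1 : f (g v) (g u) = μ * σ (f v u) := h.form v u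
  have h2 : f (g v) (g w) = μ * σ (f v w) := h.form v w
  simp only [T]
  rw [h.add, h.add, h.smul, h.smul, map_smul, h1, h2, smul_eq_mul, inv_mul_cancel_left₀ hμ, smul_smul,
    mul_right_comm, mul_inv_cancel₀ hμ, one_mul]

theorem Has.conj {φ ψ : V → V} (h : Has C φ) (hg : g ∈ C) (e : ∀ v, g (φ v) = ψ (g v)) : Has C ψ := by
  obtain ⟨k, hk, h⟩ := h
  refine ⟨g * k * g⁻¹, C.mul_mem (C.mul_mem hg hk) (C.inv_mem hg), fun v => ?_⟩
  show g (k (g⁻¹ v)) = ψ v
  have e1 : g (g⁻¹ v) = v := Equiv.apply_symm_apply g v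
  rw [h, e, e1]

theorem X.map (h : X f C u) (hg : g ∈ C) (hs : Semi (fn f) g σ μ) (hμ : μ ≠ 0) : X f C (g u) := by
  intro c
  refine (h (σ.symm (μ * c))).conj hg fun v => ?_
  rw [t_conj hs hμ, RingEquiv.apply_symm_apply, inv_mul_cancel_left₀ hμ]

theorem X.of_map (hg : g ∈ C) (hs : Semi (fn f) g σ μ) (hμ : μ ≠ 0) (h : X f C (g u)) : X f C u := by
  have h1 := h.map (C.inv_mem hg) (hs.inv hμ) (by
    intro h0
    exact inv_ne_zero hμ ((map_eq_zero _).1 h0))
  have e : g⁻¹ (g u) = u := Equiv.symm_apply_apply g u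
  rwa [e] at h1

theorem X.smul (h : X f C u) (a : F) : X f C (a • u) := fun c => (h (a ^ 2 * c)).congr fun v => (t_smul c a u v).symm

theorem TT.map (h : TT f C u w) (hg : g ∈ C) (hs : Semi (fn f) g σ μ) (hμ : μ ≠ 0) : TT f C (g u) (g w) := by
  intro c
  refine (h (σ.symm (μ * c))).conj hg fun v => ?_
  rw [T_conj hs hμ, hs.smul, RingEquiv.apply_symm_apply, T_smul, smul_smul, inv_mul_cancel_left₀ hμ]

theorem TT.symm (h : TT f C u w) : TT f C w u := fun c => (h c).congr fun v => by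
  rw [← T_smul, T_comm]

theorem TT.smul (h : TT f C u w) (a : F) : TT f C u (a • w) := fun c => by
  have := h (c * a)
  rwa [mul_smul] at this

theorem TT.smul_left (h : TT f C u w) (a : F) : TT f C (a • u) w := (h.symm.smul a).symm

theorem TT.of_smul {a : F} (ha : a ≠ 0) (h : TT f C u (a • w)) : TT f C u w := by
  have := h.smul a⁻¹
  rwa [inv_smul_smul₀ ha] at this

theorem TT.one (h : TT f C u w) : Has C (T f u w) := by
  have := h 1
  rwa [one_smul] at this

theorem TT.add (hf : f.IsAlt) {w' : V} (hX : X f C u) (h0 : f u w = 0) (h0' : f u w' = 0) (h : TT f C u w)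
    (h' : TT f C u w') : TT f C u (w + w') := by
  intro c
  have h1 : f u (c • w) = 0 := by rw [map_smul, h0, smul_zero]
  have h2 : f u (c • w') = 0 := by rw [map_smul, h0', smul_zero]
  have h3 : Has C (fun v => t f (f (c • w') (c • w)) u (T f u (c • w + c • w') v)) :=
    (h c).mul (h' c) fun v => T_add hf h1 h2 v
  rw [smul_add]
  exact h3.div' (hX _) fun v => rfl

theorem semi_T (hf : f.IsAlt) (h0 : f u w = 0) (hg : ∀ v, g v = T f u w v) : Semi (fn f) g 1 1 where
  add a b := by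
    simp only [hg, T, map_add, LinearMap.add_apply]
    module
  smul c a := by
    simp only [hg, T, map_smul, LinearMap.smul_apply]
    show _ = c • _
    module
  form a b := by
    have h1 : f w u = 0 := by rw [← hf.neg_eq, h0, neg_zero]
    have h2 : f u u = 0 := hf u
    have h3 : f w w = 0 := hf w
    have h4 : f u b = - f b u := (hf.neg_eq b u).symm
    have h5 : f w b = - f b w := (hf.neg_eq b w).symm
    show f (g a) (g b) = 1 * f a b
    simp only [hg, T, map_add, LinearMap.add_apply, map_smul, LinearMap.smul_apply, smul_eq_mul, h0, h1, h2, h3, h4, h5]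
    ring

theorem semi_t (hf : f.IsAlt) {c : F} (hg : ∀ v, g v = t f c u v) : Semi (fn f) g 1 1 where
  add a b := by
    simp only [hg, t, map_add, LinearMap.add_apply]
    module
  smul c a := by
    simp only [hg, t, map_smul, LinearMap.smul_apply]
    show _ = c • _
    module
  form a b := by
    have h2 : f u u = 0 := hf u
    have h4 : f u b = - f b u := (hf.neg_eq b u).symm
    show f (g a) (g b) = 1 * f a b
    simp only [hg, t, map_add, LinearMap.add_apply, map_smul, LinearMap.smul_apply, smul_eq_mul, h2, h4]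
    ring

theorem X.mapT (hf : f.IsAlt) (h : X f C x) (hT : Has C (T f u w)) (h0 : f u w = 0) : X f C (T f u w x) := by
  obtain ⟨g, hg, h1⟩ := hT
  rw [← h1]
  exact h.map hg (semi_T hf h0 h1) one_ne_zero

theorem X.of_mapT (hf : f.IsAlt) (hT : Has C (T f u w)) (h0 : f u w = 0) (h : X f C (T f u w x)) : X f C x := by
  obtain ⟨g, hg, h1⟩ := hT
  rw [← h1] at h
  exact h.of_map hg (semi_T hf h0 h1) one_ne_zero

theorem X.mapt (hf : f.IsAlt) (h : X f C x) {c : F} (hT : Has C (t f c u)) : X f C (t f c u x) := by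
  obtain ⟨g, hg, h1⟩ := hT
  rw [← h1]
  exact h.map hg (semi_t hf h1) one_ne_zero

end siegel

end Cfsg.Agent.H484.GenSp
end

-- part: H484/GenSpModel
section
/-!
# Semisimilarities: the model `K × K × F × F` (TEAM GEN, helper484)

The pair `h = (a x, δ a⁻¹ y, -δ q, p)`, `y = U(1) n`, `n = d (-κ τ y, τ x, -κ σ q, σ p - σ q)` generates a group containing
all transvections.
-/

set_option autoImplicit false

namespace Cfsg.Agent.H484.GenSp

open Cfsg.Agent.H137.SpModel Cfsg.Agent.H137 Subgroup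

variable {F K : Type*} [Field F] [Field K] [Algebra F K]

local notation "tr" => Algebra.trace F K

/-- the form of the model -/
noncomputable def BL (F K : Type*) [Field F] [Field K] [Algebra F K] : LinearMap.BilinForm F (M F K) :=
  LinearMap.mk₂ F B
    (by intro u u' v; simp only [B_def, Prod.fst_add, Prod.snd_add, add_mul, mul_add, map_add]; ring)
    (by intro c u v; simp only [B_def, Prod.smul_fst, Prod.smul_snd, smul_mul_assoc, mul_smul_comm, map_smul,
          smul_eq_mul]; ring)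
    (by intro u v v'; simp only [B_def, Prod.fst_add, Prod.snd_add, add_mul, mul_add, map_add]; ring)
    (by intro c u v; simp only [B_def, Prod.smul_fst, Prod.smul_snd, smul_mul_assoc, mul_smul_comm, map_smul,
          smul_eq_mul]; ring)

theorem BL_apply (u v : M F K) : BL F K u v =
    tr (u.1 * v.2.1) - tr (v.1 * u.2.1) + u.2.2.1 * v.2.2.2 - u.2.2.2 * v.2.2.1 := rfl

theorem BL_alt : (BL F K).IsAlt := by
  intro v
  rw [BL_apply, mul_comm v.2.2.1]
  ring

/-- first copy of `K` -/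
def kx (F : Type*) {K : Type*} [Field F] [Field K] [Algebra F K] (z : K) : M F K := (z, 0, 0, 0)

/-- second copy of `K` -/
def ky (F : Type*) {K : Type*} [Field F] [Field K] [Algebra F K] (z : K) : M F K := (0, z, 0, 0)

/-- the plane -/
def ee {F : Type*} (K : Type*) [Field F] [Field K] [Algebra F K] (a b : F) : M F K := (0, 0, a, b)

section all

variable {C : Subgroup (Equiv.Perm (M F K))}

/-- **all transvections** from the Siegel transformations -/
theorem X_all [FiniteDimensional F K] [Algebra.IsSeparable F K]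
    (hE1 : ∀ (a b : F) (z : K), TT (BL F K) C (ee K a b) (kx F z))
    (hE2 : ∀ (a b : F) (z : K), TT (BL F K) C (ee K a b) (ky F z))
    (hX1 : ∀ z : K, X (BL F K) C (kx F z)) (u : M F K) : X (BL F K) C u := by
  have hf := BL_alt (F := F) (K := K)
  have h01 : ∀ (a b : F) (z : K), BL F K (ee K a b) (kx F z) = 0 := by
    intro a b z
    simp [BL_apply, ee, kx]
  have h02 : ∀ (a b : F) (z : K), BL F K (ee K a b) (ky F z) = 0 := by
    intro a b z
    simp [BL_apply, ee, ky]
  obtain ⟨z0, hz0⟩ := Algebra.trace_surjective F K 1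
  have hdet : ∀ a b : F, (a, b) ≠ (0, 0) → ∃ a' b' : F, a * b' - b * a' = 1 := by
    intro a b hab
    by_cases ha : a = 0
    · have hb : b ≠ 0 := by
        rintro rfl
        exact hab (by rw [ha])
      exact ⟨-b⁻¹, 0, by field_simp; ring⟩
    · exact ⟨0, a⁻¹, by field_simp; ring⟩
  have hX2 : ∀ a b : F, (a, b) ≠ (0, 0) → X (BL F K) C (ee K a b) := by
    intro a b hab
    obtain ⟨a', b', h1⟩ := hdet a b hab
    have h2 := (hX1 1).mapT hf (hE2 a b z0).one (h02 a b z0)
    have e2 : T (BL F K) (ee K a b) (ky F z0) (kx F 1) = ((1, 0, a, b) : M F K) := by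
      simp only [T, BL_apply, ee, kx, ky]
      ext <;> simp [hz0]
    rw [e2] at h2
    have h3 := h2.mapT hf (hE1 a' b' (-1)).one (h01 a' b' _)
    have e3 : T (BL F K) (ee K a' b') (kx F (-1)) ((1, 0, a, b) : M F K) = ee K a b := by
      simp only [T, BL_apply, ee, kx]
      ext
      · simp [h1]
      · simp
      · simp only [_root_.MulZeroClass.mul_zero, _root_.map_zero, _root_.sub_self, _root_.zero_add, _root_.Prod.smul_mk, _root_.smul_neg, _root_.smul_zero, _root_.smul_eq_mul, _root_.Prod.mk_add_mk, _root_.add_zero, _root_.zero_smul]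
      · simp
    rwa [e3] at h3
  have hX3 : ∀ (x y : K) (a b : F), (a, b) ≠ (0, 0) → X (BL F K) C ((x, y, a, b) : M F K) := by
    intro x y a b hab
    obtain ⟨a', b', h1⟩ := hdet a b hab
    have h2 := (hX2 a b hab).mapT hf (hE1 a' b' x).one (h01 a' b' x)
    have e2 : T (BL F K) (ee K a' b') (kx F x) (ee K a b) = ((x, 0, a, b) : M F K) := by
      simp only [T, BL_apply, ee, kx]
      ext
      · simp [h1]
      · simp
      · simp
      · simp
    rw [e2] at h2
    have h3 := h2.mapT hf (hE2 a' b' y).one (h02 a' b' y)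
    have e3 : T (BL F K) (ee K a' b') (ky F y) ((x, 0, a, b) : M F K) =
        ((x, y, a + tr (x * y) * a', b + tr (x * y) * b') : M F K) := by
      simp only [T, BL_apply, ee, ky]
      ext
      · simp only [_root_.MulZeroClass.mul_zero, _root_.map_zero, _root_.sub_self, _root_.zero_add, _root_.Prod.smul_mk, _root_.smul_zero, _root_.smul_eq_mul, _root_.Prod.mk_add_mk, _root_.add_zero, _root_.sub_zero]
      · simp [h1]
      · simp
      · simp
    rw [e3] at h3
    have hab' : (a', b') ≠ (0, 0) := by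
      intro h
      rw [Prod.mk.injEq] at h
      rw [h.1, h.2] at h1
      simp at h1
    have h4 := h3.mapt hf (hX2 a' b' hab' (-tr (x * y)))
    have e4 : t (BL F K) (-tr (x * y)) (ee K a' b') ((x, y, a + tr (x * y) * a', b + tr (x * y) * b') : M F K) =
        ((x, y, a, b) : M F K) := by
      have e5 : BL F K ((x, y, a + tr (x * y) * a', b + tr (x * y) * b') : M F K) (ee K a' b') = 1 := by
        simp only [BL_apply, ee]
        simp only [mul_zero, zero_mul, map_zero, sub_zero, zero_add]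
        linear_combination h1
      unfold t
      rw [e5]
      simp only [ee]
      ext
      · simp only [_root_.mul_one, _root_.neg_smul, _root_.Prod.smul_mk, _root_.smul_zero, _root_.smul_eq_mul, _root_.Prod.neg_mk, _root_.neg_zero, _root_.Prod.mk_add_mk, _root_.add_zero, _root_.add_neg_cancel_right]
      · simp only [_root_.mul_one, _root_.neg_smul, _root_.Prod.smul_mk, _root_.smul_zero, _root_.smul_eq_mul, _root_.Prod.neg_mk, _root_.neg_zero, _root_.Prod.mk_add_mk, _root_.add_zero, _root_.add_neg_cancel_right]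
      · simp
      · simp
    rwa [e4] at h4
  obtain ⟨x, y, a, b⟩ := u
  by_cases hab : (a, b) = (0, 0)
  · rw [Prod.mk.injEq] at hab
    obtain ⟨rfl, rfl⟩ := hab
    by_cases hy : y = 0
    · by_cases hx : x = 0
      · subst hx hy
        intro c
        refine Has.one fun v => ?_
        simp only [t]
        ext <;> simp only [_root_.Prod.smul_mk, _root_.smul_zero, _root_.smul_eq_mul, _root_.MulZeroClass.mul_zero, _root_.Prod.fst_add, _root_.add_zero, _root_.Prod.snd_add]
      · refine X.of_mapT hf (hE2 1 0 (z0 / x)).one (h02 1 0 _) ?_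
        have e1 : T (BL F K) (ee K 1 0) (ky F (z0 / x)) ((x, y, 0, 0) : M F K) = ((x, y, 1, 0) : M F K) := by
          simp only [T, BL_apply, ee, ky]
          ext
          · simp only [_root_.MulZeroClass.mul_zero, _root_.map_zero, _root_.MulZeroClass.zero_mul, _root_.sub_self, _root_.add_zero, _root_.mul_one, _root_.zero_smul, _root_.sub_zero, _root_.Prod.smul_mk, _root_.smul_zero, _root_.smul_eq_mul, _root_.Prod.mk_add_mk, _root_.zero_add]
          · simp
          · simp [mul_div_cancel₀ _ hx, hz0]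
          · simp
        rw [e1]
        exact hX3 _ _ _ _ (by simp)
    · refine X.of_mapT hf (hE1 1 0 (z0 / y)).one (h01 1 0 _) ?_
      have e1 : T (BL F K) (ee K 1 0) (kx F (z0 / y)) ((x, y, 0, 0) : M F K) = ((x, y, -1, 0) : M F K) := by
        simp only [T, BL_apply, ee, kx]
        ext
        · simp only [_root_.MulZeroClass.mul_zero, _root_.map_zero, _root_.MulZeroClass.zero_mul, _root_.sub_self, _root_.add_zero, _root_.mul_one, _root_.zero_smul, _root_.zero_sub, _root_.sub_zero, _root_.neg_smul, _root_.Prod.smul_mk, _root_.smul_zero, _root_.smul_eq_mul, _root_.Prod.neg_mk, _root_.neg_zero, _root_.Prod.mk_add_mk, _root_.zero_add]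
        · simp
        · simp [div_mul_cancel₀ _ hy, hz0]
        · simp
      rw [e1]
      exact hX3 _ _ _ _ (by simp)
  · exact hX3 _ _ _ _ hab

end all

/-! ### The elements of the pair -/

/-- the first generator: multiplier `δ`, its square is a scalar times an element of the Singer cycle -/
def hP (a : Kˣ) (δ : Fˣ) : Equiv.Perm (M F K) where
  toFun v := ((a : K) * v.1, (δ : F) • (((a⁻¹ : Kˣ) : K) * v.2.1), -((δ : F) * v.2.2.2), v.2.2.1)
  invFun v := (((a⁻¹ : Kˣ) : K) * v.1, ((δ⁻¹ : Fˣ) : F) • ((a : K) * v.2.1), v.2.2.2, -(((δ⁻¹ : Fˣ) : F) * v.2.2.1))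
  left_inv v := by
    ext
    · simp
    · simp only [_root_.Units.val_inv_eq_inv_val, _root_.Algebra.mul_smul_comm, _root_.ne_eq, _root_.Units.ne_zero, _root_.not_false_eq_true, _root_.mul_inv_cancel_left₀, _root_.inv_smul_smul₀]
    · simp
    · simp
  right_inv v := by
    ext
    · simp
    · simp
    · simp
    · simp

theorem hP_apply (a : Kˣ) (δ : Fˣ) (v : M F K) :
    hP a δ v = ((a : K) * v.1, (δ : F) • (((a⁻¹ : Kˣ) : K) * v.2.1), -((δ : F) * v.2.2.2), v.2.2.1) := rfl

theorem semi_hP (a : Kˣ) (δ : Fˣ) : Semi (fn (BL F K)) (hP a δ) 1 (δ : F) where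
  add u v := by
    simp only [hP_apply]
    ext
    · simp only [mul_add, _root_.Prod.fst_add, _root_.Units.val_inv_eq_inv_val, _root_.Prod.mk_add_mk]
    · simp only [mul_add, _root_.Units.val_inv_eq_inv_val, _root_.Prod.snd_add, _root_.Prod.fst_add, _root_.smul_add, _root_.Prod.mk_add_mk]
    · simp only [mul_add, _root_.Prod.snd_add, _root_.neg_add_rev, _root_.Units.val_inv_eq_inv_val, _root_.Prod.mk_add_mk]; ring
    · simp only [_root_.Prod.snd_add, _root_.Prod.fst_add, _root_.Units.val_inv_eq_inv_val, _root_.Prod.mk_add_mk]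
  smul c v := by
    simp only [hP_apply]
    show _ = c • _
    ext
    · simp
    · simp only [smul_smul, mul_comm, _root_.Units.val_inv_eq_inv_val, _root_.Prod.smul_snd, _root_.Prod.smul_fst, _root_.Algebra.smul_mul_assoc, _root_.Prod.smul_mk, _root_.smul_eq_mul, _root_.mul_neg]
    · simp only [_root_.Prod.smul_snd, _root_.smul_eq_mul, _root_.Units.val_inv_eq_inv_val, _root_.Prod.smul_mk, _root_.mul_neg, _root_.neg_inj]; ring
    · simp only [_root_.Prod.smul_snd, _root_.Prod.smul_fst, _root_.smul_eq_mul, _root_.Units.val_inv_eq_inv_val, _root_.Prod.smul_mk, _root_.mul_neg]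
  form u v := by
    show BL F K _ _ = (δ : F) * BL F K u v
    have e1 : (a : K) * u.1 * (((a⁻¹ : Kˣ) : K) * v.2.1) = u.1 * v.2.1 := by
      calc _ = ((a : K) * ((a⁻¹ : Kˣ) : K)) * (u.1 * v.2.1) := by ring
        _ = _ := by simp
    have e2 : (a : K) * v.1 * (((a⁻¹ : Kˣ) : K) * u.2.1) = v.1 * u.2.1 := by
      calc _ = ((a : K) * ((a⁻¹ : Kˣ) : K)) * (v.1 * u.2.1) := by ring
        _ = _ := by simp
    simp only [hP_apply, BL_apply, mul_smul_comm, map_smul, smul_eq_mul, e1, e2]
    ring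

/-- the second generator without its unipotent part -/
def nP (σ : F ≃+* F) (τ : K ≃+* K) (d κ : Fˣ) :
    Equiv.Perm (M F K) where
  toFun v := (-(((d : F) * κ) • τ v.2.1), (d : F) • τ v.1, -((d : F) * κ * σ v.2.2.2), (d : F) * (σ v.2.2.1 - σ v.2.2.2))
  invFun w := (τ.symm (((d⁻¹ : Fˣ) : F) • w.2.1), -τ.symm ((((d⁻¹ : Fˣ) : F) * ((κ⁻¹ : Fˣ) : F)) • w.1),
    σ.symm (((d⁻¹ : Fˣ) : F) * w.2.2.2 - ((d⁻¹ : Fˣ) : F) * ((κ⁻¹ : Fˣ) : F) * w.2.2.1),
    -σ.symm (((d⁻¹ : Fˣ) : F) * ((κ⁻¹ : Fˣ) : F) * w.2.2.1))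
  left_inv v := by
    have hd := d.ne_zero
    have hκ := κ.ne_zero
    ext
    · show τ.symm _ = v.1
      rw [RingEquiv.symm_apply_eq, smul_smul, Units.inv_mul, one_smul]
    · show -τ.symm _ = v.2.1
      rw [neg_eq_iff_eq_neg, RingEquiv.symm_apply_eq, smul_neg, smul_smul, map_neg, Units.val_inv_eq_inv_val,
        Units.val_inv_eq_inv_val]
      have e : (d : F)⁻¹ * (κ : F)⁻¹ * ((d : F) * κ) = 1 := by field_simp
      rw [e, one_smul]
    · show σ.symm _ = v.2.2.1
      rw [RingEquiv.symm_apply_eq, Units.val_inv_eq_inv_val, Units.val_inv_eq_inv_val]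
      field_simp
      ring
    · show -σ.symm _ = v.2.2.2
      rw [neg_eq_iff_eq_neg, RingEquiv.symm_apply_eq, map_neg, Units.val_inv_eq_inv_val, Units.val_inv_eq_inv_val]
      field_simp
  right_inv v := by
    have hd := d.ne_zero
    have hκ := κ.ne_zero
    ext
    · show -(((d : F) * κ) • τ (-τ.symm _)) = v.1
      rw [map_neg, RingEquiv.apply_symm_apply, smul_neg, neg_neg, smul_smul, Units.val_inv_eq_inv_val,
        Units.val_inv_eq_inv_val]
      have e : (d : F) * κ * ((d : F)⁻¹ * (κ : F)⁻¹) = 1 := by field_simp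
      rw [e, one_smul]
    · show (d : F) • τ (τ.symm _) = v.2.1
      rw [RingEquiv.apply_symm_apply, smul_smul, Units.mul_inv, one_smul]
    · show -((d : F) * κ * σ (-σ.symm _)) = v.2.2.1
      rw [map_neg, RingEquiv.apply_symm_apply, Units.val_inv_eq_inv_val, Units.val_inv_eq_inv_val]
      field_simp
    · show (d : F) * (σ (σ.symm _) - σ (-σ.symm _)) = v.2.2.2
      rw [map_neg, RingEquiv.apply_symm_apply, RingEquiv.apply_symm_apply, Units.val_inv_eq_inv_val,
        Units.val_inv_eq_inv_val]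
      field_simp
      ring

theorem nP_apply (σ : F ≃+* F) (τ : K ≃+* K) (d κ : Fˣ) (v : M F K) : nP σ τ d κ v =
    (-(((d : F) * κ) • τ v.2.1), (d : F) • τ v.1, -((d : F) * κ * σ v.2.2.2), (d : F) * (σ v.2.2.1 - σ v.2.2.2)) := rfl

theorem semi_nP {σ : F ≃+* F} {τ : K ≃+* K} (hτ : ∀ (c : F) (z : K), τ (c • z) = σ c • τ z)
    (htr : ∀ z : K, tr (τ z) = σ (tr z)) (d κ : Fˣ) : Semi (fn (BL F K)) (nP σ τ d κ) σ ((d : F) ^ 2 * κ) where
  add u v := by
    simp only [nP_apply]
    ext
    · simp only [_root_.Prod.snd_add, _root_.Prod.fst_add, _root_.map_add, _root_.smul_add, _root_.neg_add_rev, _root_.Prod.mk_add_mk]; abel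
    · simp only [_root_.Prod.fst_add, _root_.map_add, _root_.smul_add, _root_.Prod.mk_add_mk]
    · simp only [_root_.Prod.snd_add, _root_.map_add, _root_.Prod.mk_add_mk]; ring
    · simp only [_root_.Prod.snd_add, _root_.Prod.fst_add, _root_.map_add, _root_.Prod.mk_add_mk]; ring
  smul c v := by
    simp only [nP_apply]
    ext
    · simp [hτ, smul_smul, mul_comm, mul_left_comm]
    · simp only [hτ, smul_smul, mul_comm, _root_.Prod.smul_fst, _root_.Prod.smul_mk, _root_.smul_neg, _root_.smul_eq_mul, _root_.mul_neg]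
    · simp; ring
    · simp only [_root_.Prod.smul_snd, _root_.Prod.smul_fst, _root_.smul_eq_mul, _root_.map_mul, _root_.Prod.smul_mk, _root_.smul_neg, _root_.mul_neg]; ring
  form u v := by
    show BL F K _ _ = (d : F) ^ 2 * κ * σ (BL F K u v)
    have key : ∀ x y : K, tr (-(((d : F) * κ) • τ y) * ((d : F) • τ x)) = -((d : F) ^ 2 * κ * σ (tr (x * y))) := by
      intro x y
      rw [neg_mul, map_neg, smul_mul_smul_comm, map_smul, ← map_mul, htr, smul_eq_mul, mul_comm y x]
      ring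
    simp only [nP_apply, BL_apply, key, map_sub, map_add, map_mul]
    ring

section gen

variable {C : Subgroup (Equiv.Perm (M F K))}

/-- **From the Siegel transformations `T(e, z)` and `n` to all transvections.** -/
theorem X_all_of_n [Finite K] [FiniteDimensional F K] [Algebra.IsSeparable F K] {σ : F ≃+* F} {τ : K ≃+* K}
    (hτ : ∀ (c : F) (z : K), τ (c • z) = σ c • τ z) (htr : ∀ z : K, tr (τ z) = σ (tr z)) {d κ : Fˣ}
    (hn : nP σ τ d κ ∈ C) (hU : ∀ z : K, TT (BL F K) C (ee K 1 0) (kx F z)) (h2 : κ = 1 ∨ (2 : F) ≠ 0) (u : M F K) :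
    X (BL F K) C u := by
  have : Finite F := Finite.of_injective (algebraMap F K) (algebraMap F K).injective
  have hf := BL_alt (F := F) (K := K)
  have hs := semi_nP hτ htr d κ
  have hμ : (d : F) ^ 2 * κ ≠ 0 := mul_ne_zero (pow_ne_zero 2 d.ne_zero) κ.ne_zero
  have h01 : ∀ (a b : F) (z : K), BL F K (ee K a b) (kx F z) = 0 := by
    intro a b z
    simp [BL_apply, ee, kx]
  have h02 : ∀ (a b : F) (z : K), BL F K (ee K a b) (ky F z) = 0 := by
    intro a b z
    simp [BL_apply, ee, ky]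
  have h10 : ∀ (a b : F) (z : K), BL F K (kx F z) (ee K a b) = 0 := by
    intro a b z
    simp [BL_apply, ee, kx]
  have h20 : ∀ (a b : F) (z : K), BL F K (ky F z) (ee K a b) = 0 := by
    intro a b z
    simp [BL_apply, ee, ky]
  have ne : ∀ a b : F, nP σ τ d κ (ee K a b) = ee K (-((d : F) * κ * σ b)) ((d : F) * (σ a - σ b)) := by
    intro a b
    simp only [nP_apply, ee]
    ext <;> simp only [_root_.map_zero, _root_.smul_zero, _root_.neg_zero]
  have nx : ∀ z : K, nP σ τ d κ (kx F z) = (d : F) • ky F (τ z) := by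
    intro z
    simp only [nP_apply, kx, ky]
    ext <;> simp only [_root_.map_zero, _root_.smul_zero, _root_.neg_zero, _root_.Prod.smul_mk, _root_.smul_eq_mul, _root_.MulZeroClass.mul_zero, _root_.sub_self]
  have ny : ∀ z : K, nP σ τ d κ (ky F z) = (-((d : F) * κ)) • kx F (τ z) := by
    intro z
    simp only [nP_apply, kx, ky]
    ext <;> simp only [_root_.neg_smul, _root_.Prod.smul_mk, _root_.smul_zero, _root_.smul_eq_mul, _root_.MulZeroClass.mul_zero, _root_.Prod.neg_mk, _root_.neg_zero, _root_.map_zero, _root_.sub_self]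
  have stepx : ∀ a b : F, (∀ z : K, TT (BL F K) C (ee K a b) (kx F z)) →
      ∀ z : K, TT (BL F K) C (ee K (-((d : F) * κ * σ b)) ((d : F) * (σ a - σ b))) (ky F z) := by
    intro a b h z
    have h1 := (h (τ.symm z)).map hn hs hμ
    rw [ne, nx, RingEquiv.apply_symm_apply] at h1
    exact h1.of_smul d.ne_zero
  have stepy : ∀ a b : F, (∀ z : K, TT (BL F K) C (ee K a b) (ky F z)) →
      ∀ z : K, TT (BL F K) C (ee K (-((d : F) * κ * σ b)) ((d : F) * (σ a - σ b))) (kx F z) := by
    intro a b h z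
    have h1 := (h (τ.symm z)).map hn hs hμ
    rw [ne, ny, RingEquiv.apply_symm_apply] at h1
    exact h1.of_smul (neg_ne_zero.2 (mul_ne_zero d.ne_zero κ.ne_zero))
  have ees : ∀ (c a b : F), ee K (c * a) (c * b) = c • ee K a b := by
    intro c a b
    simp only [ee]
    ext <;> simp
  have sc : ∀ (c a b : F) (w : M F K), TT (BL F K) C (ee K a b) w → TT (BL F K) C (ee K (c * a) (c * b)) w := by
    intro c a b w h
    rw [ees]
    exact h.smul_left c
  -- the vectors
  have a1 : ∀ z : K, TT (BL F K) C (ee K 0 1) (ky F z) := by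
    intro z
    have h := sc (d : F)⁻¹ _ _ _ (stepx 1 0 hU z)
    simpa [d.ne_zero] using h
  have a2 : ∀ z : K, TT (BL F K) C (ee K κ 1) (kx F z) := by
    intro z
    have h := sc (-(d : F)⁻¹) _ _ _ (stepy 0 1 a1 z)
    simpa only [d.ne_zero, _root_.map_one, _root_.mul_one, _root_.mul_neg, _root_.neg_mul, _root_.ne_eq, _root_.not_false_eq_true, _root_.inv_mul_cancel_left₀, _root_.neg_neg, _root_.map_zero, _root_.zero_sub, _root_.inv_mul_cancel₀] using h
  have a3 : ∀ z : K, TT (BL F K) C (ee K (-κ) (σ κ - 1)) (ky F z) := by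
    intro z
    have h := sc ((d : F)⁻¹) _ _ _ (stepx κ 1 a2 z)
    simpa [d.ne_zero] using h
  -- transvections with centre in the first copy, one parameter
  have b1 : ∃ c0 : F, c0 ≠ 0 ∧ ∀ z : K, Has C (t (BL F K) c0 (kx F z)) := by
    rcases h2 with h2 | h2
    · subst h2
      have a4 : ∀ z : K, TT (BL F K) C (ee K 0 1) (kx F z) := by
        intro z
        have a3' : ∀ z : K, TT (BL F K) C (ee K (-1) 0) (ky F z) := by
          intro z
          have := a3 z
          simpa using this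
        have h := sc (-(d : F)⁻¹) _ _ _ (stepy (-1) 0 a3' z)
        simpa only [d.ne_zero, _root_.Units.val_one, _root_.mul_one, _root_.map_zero, _root_.MulZeroClass.mul_zero, _root_.neg_zero, _root_.RingEquiv.map_neg_one, _root_.sub_zero, _root_.mul_neg, _root_.neg_mul, _root_.ne_eq, _root_.not_false_eq_true, _root_.inv_mul_cancel₀, _root_.neg_neg] using h
      refine ⟨-1, by simp, fun z => ?_⟩
      have c1 := (hU z).symm.one
      have c2 := (a4 z).symm.one
      have c3 := (a2 z).symm.one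
      have c4 := (c1.mul c2 fun v => T_add hf (h10 1 0 z) (h10 0 1 z) v)
      have e1 : ee K (1 : F) 0 + ee K (0 : F) 1 = ee K ((1 : Fˣ) : F) 1 := by
        simp only [ee]
        ext <;> simp
      have e2 : BL F K (ee K (0 : F) 1) (ee K (1 : F) 0) = -1 := by
        simp only [BL_apply, ee, _root_.MulZeroClass.mul_zero, _root_.map_zero, _root_.sub_self, _root_.add_zero, _root_.mul_one, _root_.zero_sub]
      rw [e1] at c4
      rw [← e2]
      exact c4.div c3 fun v => rfl
    · refine ⟨-1 - 1, ?_, fun z => ?_⟩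
      · intro h
        apply h2
        linear_combination -h
      have c1 := (hU z).symm.one
      have c3 := (a2 z).symm.one
      have c4 := (c1.mul c3 fun v => T_add hf (h10 1 0 z) (h10 κ 1 z) v)
      have c5 := (c3.mul c1 fun v => T_add hf (h10 κ 1 z) (h10 1 0 z) v)
      have e2 : BL F K (ee K (κ : F) 1) (ee K (1 : F) 0) = -1 := by
        simp [BL_apply, ee]
      have e3 : BL F K (ee K (1 : F) 0) (ee K (κ : F) 1) = 1 := by
        simp [BL_apply, ee]
      rw [e2] at c4
      rw [e3] at c5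
      refine c4.div c5 fun v => ?_
      rw [add_comm (ee K (κ : F) 1)]
      set v' := T (BL F K) (kx F z) (ee K 1 0 + ee K (κ : F) 1) v
      have e4 : BL F K (kx F z) (kx F z) = 0 := hf _
      simp only [t, map_add, map_smul, LinearMap.add_apply, LinearMap.smul_apply, e4]
      module
  obtain ⟨c0, hc0, hc1⟩ := b1
  let Y : AddSubgroup F :=
    { carrier := {c | ∀ z : K, Has C (t (BL F K) c (kx F z))}
      zero_mem' := fun z => Has.one fun v => by simp [t]
      add_mem' := by
        intro a b ha hb z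
        refine (ha z).mul (hb z) fun v => ?_
        have e4 : BL F K (kx F z) (kx F z) = 0 := hf _
        simp only [t, map_add, map_smul, LinearMap.add_apply, LinearMap.smul_apply, e4]
        module
      neg_mem' := by
        intro a ha z
        refine (Has.one (C := C) (φ := id) fun v => rfl).div (ha z) fun v => ?_
        have e4 : BL F K (kx F z) (kx F z) = 0 := hf _
        simp only [t, map_add, map_smul, LinearMap.add_apply, LinearMap.smul_apply, e4, id]
        module }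
  have hY : ∀ c : F, c ∈ Y := by
    refine fun c => mem_of_sq_mul Y ?_ (y := c0) hc1 hc0 c
    intro c _ y hy z
    have h := hy (c • z)
    have e : kx F (c • z) = c • kx F z := by
      simp only [kx]
      ext <;> simp
    rw [e] at h
    exact h.congr fun v => t_smul y c (kx F z) v
  have hX1 : ∀ z : K, X (BL F K) C (kx F z) := fun z c => hY c z
  have hX2 : ∀ z : K, X (BL F K) C (ky F z) := by
    intro z
    have h := (hX1 (τ.symm z)).map hn hs hμ
    rw [nx, RingEquiv.apply_symm_apply] at h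
    have h3 := h.smul (d : F)⁻¹
    rwa [inv_smul_smul₀ d.ne_zero] at h3
  have addx : ∀ (a b a' b' : F) (z : K), TT (BL F K) C (ee K a b) (kx F z) → TT (BL F K) C (ee K a' b') (kx F z) →
      TT (BL F K) C (ee K (a + a') (b + b')) (kx F z) := by
    intro a b a' b' z h h'
    have e : ee K (a + a') (b + b') = ee K a b + ee K a' b' := by
      simp only [ee]
      ext <;> simp
    rw [e]
    exact (TT.add hf (hX1 z) (h10 _ _ _) (h10 _ _ _) h.symm h'.symm).symm
  have addy : ∀ (a b a' b' : F) (z : K), TT (BL F K) C (ee K a b) (ky F z) → TT (BL F K) C (ee K a' b') (ky F z) →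
      TT (BL F K) C (ee K (a + a') (b + b')) (ky F z) := by
    intro a b a' b' z h h'
    have e : ee K (a + a') (b + b') = ee K a b + ee K a' b' := by
      simp only [ee]
      ext <;> simp
    rw [e]
    exact (TT.add hf (hX2 z) (h20 _ _ _) (h20 _ _ _) h.symm h'.symm).symm
  refine X_all ?_ ?_ hX1 u
  · intro a b z
    have g1 := sc (a - b * κ) 1 0 _ (hU z)
    have g2 := sc b κ 1 _ (a2 z)
    have g3 := addx _ _ _ _ z g1 g2
    have e1 : (a - b * κ) * 1 + b * κ = a := by ring
    have e2 : (a - b * κ) * 0 + b * 1 = b := by ring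
    rwa [e1, e2] at g3
  · intro a b z
    have g1 := sc (-a * (κ : F)⁻¹) _ _ _ (a3 z)
    have g2 := sc (b + a * (κ : F)⁻¹ * (σ κ - 1)) 0 1 _ (a1 z)
    have g3 := addy _ _ _ _ z g1 g2
    have hκ := κ.ne_zero
    have e1 : -a * (κ : F)⁻¹ * -κ + (b + a * (κ : F)⁻¹ * (σ κ - 1)) * 0 = a := by
      field_simp
      ring
    have e2 : -a * (κ : F)⁻¹ * (σ κ - 1) + (b + a * (κ : F)⁻¹ * (σ κ - 1)) * 1 = b := by ring
    rwa [e1, e2] at g3

end gen

/-! ### The torus trick -/

/-- the unipotent elements as permutations -/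
noncomputable def PU (z : K) : Equiv.Perm (M F K) := (U (F := F) z).toEquiv

theorem PU_apply (z : K) (v : M F K) : PU z v = T (BL F K) (ee K 1 0) (kx F z) v := by
  show U z v = _
  rw [U_apply]
  simp only [T, BL_apply, ee, kx]
  ext
  · simp only [sub_eq_add_neg, _root_.MulZeroClass.mul_zero, _root_.map_zero, _root_.MulZeroClass.zero_mul, _root_.sub_self, _root_.add_zero, _root_.mul_one, _root_.zero_add, _root_.neg_smul, _root_.Prod.smul_mk, _root_.smul_zero, _root_.smul_eq_mul, _root_.Prod.neg_mk, _root_.neg_zero, _root_.Prod.fst_add]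
  · simp only [_root_.MulZeroClass.mul_zero, _root_.map_zero, _root_.MulZeroClass.zero_mul, _root_.sub_self, _root_.add_zero, _root_.mul_one, _root_.zero_sub, _root_.neg_smul, _root_.Prod.smul_mk, _root_.smul_zero, _root_.smul_eq_mul, _root_.Prod.neg_mk, _root_.neg_zero, _root_.sub_zero, _root_.Prod.snd_add, _root_.Prod.fst_add]
  · simp only [sub_eq_add_neg, _root_.MulZeroClass.mul_zero, _root_.map_zero, _root_.MulZeroClass.zero_mul, _root_.sub_self, _root_.add_zero, _root_.mul_one, _root_.zero_add, _root_.neg_smul, _root_.Prod.smul_mk, _root_.smul_zero, _root_.smul_eq_mul, _root_.Prod.neg_mk, _root_.neg_zero, _root_.Prod.snd_add, _root_.Prod.fst_add]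
  · simp

theorem PU_add (z z' : K) : (PU (z + z') : Equiv.Perm (M F K)) = PU z * PU z' := by
  have h := U_add (F := F) z z'
  ext1 v
  show U (z + z') v = U z (U z' v)
  rw [h]
  rfl

theorem PU_zero : (PU 0 : Equiv.Perm (M F K)) = 1 := by
  ext1 v
  show U 0 v = v
  rw [U_zero]
  rfl

theorem PU_neg (z : K) : (PU (-z) : Equiv.Perm (M F K)) = (PU z)⁻¹ := by
  rw [eq_inv_iff_mul_eq_one, ← PU_add, neg_add_cancel, PU_zero]

theorem PU_inj {z z' : K} (h : (PU z : Equiv.Perm (M F K)) = PU z') : z = z' := by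
  have h1 : PU z (ee K (0 : F) 1) = PU z' (ee K (0 : F) 1) := by rw [h]
  have h2 : (U z (ee K (0 : F) 1)).1 = (U z' (ee K (0 : F) 1)).1 := congrArg Prod.fst h1
  rw [U_apply, U_apply] at h2
  simpa [ee] using h2

/-- the root group -/
noncomputable def XU (F K : Type*) [Field F] [Field K] [Algebra F K] : Subgroup (Equiv.Perm (M F K)) where
  carrier := {g | ∃ z : K, g = PU z}
  mul_mem' := by
    rintro _ _ ⟨z, rfl⟩ ⟨z', rfl⟩
    exact ⟨z + z', (PU_add z z').symm⟩
  one_mem' := ⟨0, PU_zero.symm⟩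
  inv_mem' := by
    rintro _ ⟨z, rfl⟩
    exact ⟨-z, (PU_neg z).symm⟩

/-- conjugation of the root group -/
theorem conj_PU {g : Equiv.Perm (M F K)} {μ l : F} {α : K} (hs : Semi (fn (BL F K)) g 1 μ) (hμ : μ ≠ 0)
    (he : g (ee K 1 0) = l • ee K 1 0) (hk : ∀ z : K, g (kx F z) = kx F (α * z)) (z : K) :
    g * PU z * g⁻¹ = PU ((algebraMap F K (μ⁻¹ * l) * α) * z) := by
  rw [mul_inv_eq_iff_eq_mul]
  ext1 v
  show g (PU z v) = PU _ (g v)
  rw [PU_apply, PU_apply, T_conj hs hμ, he, hk, smul_smul, T_smul]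
  congr 1
  simp only [kx]
  ext
  · simp [Algebra.smul_def, mul_assoc]
  · simp
  · simp only [_root_.Prod.smul_mk, _root_.smul_zero, _root_.smul_eq_mul, _root_.MulZeroClass.mul_zero]
  · simp

/-- the square of the first generator -/
theorem hP_sq (a : Kˣ) (δ : Fˣ) (v : M F K) : (hP a δ * hP a δ : Equiv.Perm (M F K)) v =
    (((a : K) * a) * v.1, ((δ : F) * δ) • ((((a⁻¹ : Kˣ) : K) * ((a⁻¹ : Kˣ) : K)) * v.2.1), -((δ : F) * v.2.2.1),
      -((δ : F) * v.2.2.2)) := by
  show hP a δ (hP a δ v) = _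
  simp only [hP_apply]
  ext
  · simp [mul_assoc]
  · simp only [mul_smul_comm, smul_smul, mul_assoc]
  · simp
  · simp

theorem semi_hP_sq (a : Kˣ) (δ : Fˣ) : Semi (fn (BL F K)) (hP a δ * hP a δ) 1 ((δ : F) * δ) := by
  have h := (semi_hP (F := F) a δ).mul (semi_hP a δ)
  rw [mul_one] at h
  exact h

end Cfsg.Agent.H484.GenSp
end

-- part: H484/GenSpTorus
section
/-!
# Semisimilarities: the torus trick in the model (TEAM GEN, helper484)
-/

set_option autoImplicit false

namespace Cfsg.Agent.H484.GenSp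

open Cfsg.Agent.H137.SpModel Cfsg.Agent.H137 Subgroup

variable {F K : Type*} [Field F] [Field K] [Algebra F K]

local notation "tr" => Algebra.trace F K

/-- an irreducible action on the root group -/
theorem irr [Finite K] {s : Equiv.Perm (M F K)} {g : Kˣ} (hg : ∀ x : Kˣ, x ∈ Subgroup.zpowers g) {β : K}
    (hβ : β = g ∨ β = (g : K) ^ 2) (hs : ∀ z : K, s * PU z * s⁻¹ = PU (β * z)) (Y : Subgroup (Equiv.Perm (M F K)))
    (hY : Y ≤ XU F K) (h : ∀ y ∈ Y, s * y * s⁻¹ ∈ Y) : Y = ⊥ ∨ Y = XU F K := by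
  by_cases h1 : ∃ z : K, z ≠ 0 ∧ (PU z : Equiv.Perm (M F K)) ∈ Y
  · right
    refine le_antisymm hY ?_
    obtain ⟨z0, hz0, h2⟩ := h1
    let Y' : AddSubgroup K :=
      { carrier := {z | (PU z : Equiv.Perm (M F K)) ∈ Y}
        zero_mem' := by
          show PU 0 ∈ Y
          rw [PU_zero]; exact Y.one_mem
        add_mem' := by
          intro a b ha hb
          show PU (a + b) ∈ Y
          rw [PU_add]; exact Y.mul_mem ha hb
        neg_mem' := by
          intro a ha
          show PU (-a) ∈ Y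
          rw [PU_neg]; exact Y.inv_mem ha }
    have h3 : ∀ z ∈ Y', β * z ∈ Y' := by
      intro z hz
      show PU (β * z) ∈ Y
      rw [← hs]
      exact h _ hz
    have h4 : ∀ z ∈ Y', (g : K) ^ 2 * z ∈ Y' := by
      intro z hz
      rcases hβ with hβ | hβ
      · have := h3 _ (h3 z hz)
        rwa [← mul_assoc, hβ, ← sq] at this
      · have := h3 z hz
        rwa [hβ] at this
    have h5 : ∀ (k : ℕ), ∀ z ∈ Y', ((g : K) ^ 2) ^ k * z ∈ Y' := by
      intro k
      induction k with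
      | zero => intro z hz; rwa [pow_zero, one_mul]
      | succ k ih => intro z hz; rw [pow_succ, mul_assoc]; exact ih _ (h4 z hz)
    rintro _ ⟨z, rfl⟩
    refine mem_of_sq_mul Y' ?_ (y := z0) h2 hz0 z
    intro c hc y hy
    obtain ⟨k, hk⟩ := mem_powers_iff_mem_zpowers.2 (hg (Units.mk0 c hc))
    have hk' : (g : K) ^ k = c := by
      have := congrArg (fun x : Kˣ => (x : K)) hk
      simpa using this
    have := h5 k y hy
    rwa [← pow_mul, mul_comm 2 k, pow_mul, hk'] at this
  · left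
    rw [eq_bot_iff]
    intro y hy
    obtain ⟨z, rfl⟩ := hY hy
    have h2 : z = 0 := by
      by_contra h3
      exact h1 ⟨z, h3, hy⟩
    rw [h2, PU_zero]
    exact Subgroup.one_mem _

/-- **the torus trick in the model** -/
theorem lift_core [Finite K] {g : Kˣ} (hg : ∀ x : Kˣ, x ∈ Subgroup.zpowers g) {σ : F ≃+* F} {τ : K ≃+* K}
    (hτ : ∀ (c : F) (z : K), τ (c • z) = σ c • τ z) (htr : ∀ z : K, tr (τ z) = σ (tr z)) {a : Kˣ} {δ d κ : Fˣ}
    (hβ : -((δ : F)⁻¹ • ((a : K) * a)) = g ∨ -((δ : F)⁻¹ • ((a : K) * a)) = (g : K) ^ 2)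
    (hβ1 : -((δ : F)⁻¹ • ((a : K) * a)) ≠ 1) {C : Subgroup (Equiv.Perm (M F K))} (hh : hP a δ ∈ C)
    (hy : PU 1 * nP σ τ d κ ∈ C) : XU F K ≤ C ∧ nP σ τ d κ ∈ C := by
  set β : K := -((δ : F)⁻¹ • ((a : K) * a)) with hβdef
  set s : Equiv.Perm (M F K) := hP a δ * hP a δ with hsdef
  set n : Equiv.Perm (M F K) := nP σ τ d κ with hndef
  have hδ := δ.ne_zero
  have hσδ : σ (δ : F) ≠ 0 := fun h0 => hδ ((map_eq_zero _).1 h0)
  have hsC : s ∈ C := C.mul_mem hh hh
  have hs : ∀ z : K, s * PU z * s⁻¹ = PU (β * z) := by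
    intro z
    have h := conj_PU (semi_hP_sq a δ) (mul_ne_zero hδ hδ) (l := -(δ : F)) (α := (a : K) * a) (by
      rw [hP_sq]
      simp only [ee]
      ext <;> simp only [_root_.MulZeroClass.mul_zero, _root_.neg_smul, _root_.Prod.smul_mk, _root_.smul_zero, _root_.smul_eq_mul, _root_.mul_one, _root_.Prod.neg_mk, _root_.neg_zero, _root_.Units.val_inv_eq_inv_val]) (by
      intro z
      rw [hP_sq]
      simp only [kx]
      ext <;> simp only [_root_.Units.val_inv_eq_inv_val, _root_.MulZeroClass.mul_zero, _root_.smul_zero, _root_.neg_zero]) z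
    rw [← hsdef] at h
    rw [h]
    congr 2
    rw [hβdef, Algebra.smul_def, ← neg_mul, ← map_neg]
    congr 2
    field_simp
  -- the conjugate
  have hsemi : Semi (fn (BL F K)) (n * s * n⁻¹) 1 (σ ((δ : F) * δ)) := by
    have hμ : (d : F) ^ 2 * κ ≠ 0 := mul_ne_zero (pow_ne_zero 2 d.ne_zero) κ.ne_zero
    have h := ((semi_nP hτ htr d κ).mul (semi_hP_sq a δ)).mul ((semi_nP hτ htr d κ).inv hμ)
    rw [mul_one, mul_inv_cancel] at h
    have e : (d : F) ^ 2 * κ * σ ((δ : F) * δ) * σ (σ⁻¹ ((d : F) ^ 2 * κ)⁻¹) = σ ((δ : F) * δ) := by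
      have e1 : σ (σ⁻¹ ((d : F) ^ 2 * κ)⁻¹) = ((d : F) ^ 2 * κ)⁻¹ := σ.apply_symm_apply _
      rw [e1, mul_right_comm, mul_inv_cancel₀ hμ, one_mul]
    rw [e] at h
    exact h
  have hact : ∀ w : M F K, (n * s * n⁻¹) w = ((σ (δ : F) * σ δ) • (τ ((a⁻¹ : Kˣ) : K) * τ ((a⁻¹ : Kˣ) : K) * w.1),
      τ (a : K) * τ a * w.2.1, -(σ (δ : F) * w.2.2.1), -(σ (δ : F) * w.2.2.2)) := by
    intro w
    obtain ⟨v, rfl⟩ : ∃ v, w = n v := ⟨n⁻¹ w, (Equiv.apply_symm_apply n w).symm⟩
    have e1 : n⁻¹ (n v) = v := Equiv.symm_apply_apply n v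
    show n (s (n⁻¹ (n v))) = _
    rw [e1, hsdef, hP_sq, hndef, nP_apply, nP_apply]
    simp only [hτ, map_mul, map_neg]
    ext
    · simp only [mul_smul_comm, smul_smul, mul_neg, smul_neg, neg_inj]
      congr 1
      ring
    · simp only [mul_smul_comm, mul_assoc]
    · ring
    · ring
  have hbz : ∀ z : K, (n * s * n⁻¹) * PU z * (n * s * n⁻¹)⁻¹ = PU ((τ β)⁻¹ * z) := by
    intro z
    have h := conj_PU hsemi (fun h0 => mul_ne_zero hδ hδ ((map_eq_zero _).1 h0)) (l := -σ (δ : F))
      (α := (σ (δ : F) * σ δ) • (τ ((a⁻¹ : Kˣ) : K) * τ ((a⁻¹ : Kˣ) : K))) (by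
      rw [hact]
      simp only [ee]
      ext <;> simp only [_root_.Units.val_inv_eq_inv_val, _root_.map_inv₀, _root_.MulZeroClass.mul_zero, _root_.smul_zero, _root_.neg_smul, _root_.Prod.smul_mk, _root_.smul_eq_mul, _root_.mul_one, _root_.Prod.neg_mk, _root_.neg_zero]) (by
      intro z
      rw [hact]
      simp only [kx]
      ext <;> simp only [_root_.Units.val_inv_eq_inv_val, _root_.map_inv₀, _root_.Algebra.smul_mul_assoc, _root_.MulZeroClass.mul_zero, _root_.neg_zero]) z
    rw [h]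
    congr 2
    have h1 : τ (a : K) ≠ 0 := fun h0 => a.ne_zero ((map_eq_zero _).1 h0)
    have h2 : algebraMap F K (σ δ) ≠ 0 := fun h0 => hσδ ((map_eq_zero _).1 h0)
    have h3 : τ ((a⁻¹ : Kˣ) : K) = (τ (a : K))⁻¹ := by
      rw [Units.val_inv_eq_inv_val, map_inv₀]
    rw [hβdef, map_neg, hτ, map_inv₀, map_mul, h3, Algebra.smul_def, Algebra.smul_def, map_mul σ]
    simp only [map_mul, map_neg, map_inv₀]
    field_simp
  have hb1 : (τ β)⁻¹ ≠ 1 := by
    intro h
    apply hβ1
    have h1 : τ β = 1 := by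
      rw [← inv_inv (τ β), h, inv_one]
    exact (map_eq_one_iff τ τ.injective).1 h1
  have hβ0 : τ β ≠ 0 := by
    intro h
    have h1 : β = 0 := (map_eq_zero _).1 h
    rcases hβ with h2 | h2
    · rw [h2] at h1
      exact g.ne_zero h1
    · rw [h2] at h1
      exact pow_ne_zero 2 g.ne_zero h1
  refine Cfsg.Agent.H136.TwoGen.torus_trick C (XU F K) (h := s) (w := n) (u := PU 1) hsC hy ⟨1, rfl⟩ ?_ ?_ ?_ ?_ ?_ ?_ ?_
  · rintro _ ⟨z, rfl⟩
    exact ⟨_, hbz z⟩
  · rintro _ ⟨z, rfl⟩
    refine ⟨τ β * z, ?_⟩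
    have h := hbz (τ β * z)
    rw [inv_mul_cancel_left₀ hβ0] at h
    rw [← h]
    group
  · exact fun Y hY h => irr hg hβ hs Y hY h
  · refine ⟨PU 1, ⟨1, rfl⟩, fun h => hβ1 ?_⟩
    have h1 := hs 1
    rw [h, mul_inv_cancel_right, mul_one] at h1
    exact (PU_inj h1).symm
  · rintro _ ⟨z, rfl⟩
    exact ⟨_, hs z⟩
  · ext1 v
    show s ((n * s * n⁻¹) v) = (n * s * n⁻¹) (s v)
    rw [hact, hact, hsdef, hP_sq, hP_sq]
    ext
    · simp only [mul_smul_comm]
      congr 1
      ring
    · simp only [mul_smul_comm]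
      congr 1
      ring
    · ring
    · ring
  · intro h
    apply hb1
    have h1 := hbz 1
    rw [h, mul_inv_cancel_right, mul_one] at h1
    exact (PU_inj h1).symm

end Cfsg.Agent.H484.GenSp
end

-- part: H484/GenSpLift
section
/-!
# Semisimilarities: the lifting property (TEAM GEN, helper484)
-/

set_option autoImplicit false

namespace Cfsg.Agent.H484.GenSp

open Cfsg Cfsg.Agent.H137.SpModel Cfsg.Agent.H137 Subgroup Cfsg.Agent.ClassicalGeometry.SympBasic
open scoped Matrix

variable {F K : Type*} [Field F] [Field K] [Algebra F K]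

local notation "tr" => Algebra.trace F K

/-- extension of a field automorphism -/
theorem exists_tau [Finite K] (σ : F ≃+* F) : ∃ τ : K ≃+* K, (∀ (c : F) (z : K), τ (c • z) = σ c • τ z) ∧
    ∀ z : K, tr (τ z) = σ (tr z) := by
  have : Finite F := Finite.of_injective (algebraMap F K) (algebraMap F K).injective
  obtain ⟨p, hp⟩ := CharP.exists F
  have hpp : Fact p.Prime := ⟨CharP.char_is_prime F p⟩
  have hpK : CharP K p := charP_of_injective_algebraMap (algebraMap F K).injective p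
  let _ : Algebra (ZMod p) F := ZMod.algebra F p
  let _ : Algebra (ZMod p) K := ZMod.algebra K p
  have : IsScalarTower (ZMod p) F K := IsScalarTower.of_algebraMap_eq' (Subsingleton.elim _ _)
  have hσ : ∀ x : ZMod p, σ (algebraMap (ZMod p) F x) = algebraMap (ZMod p) F x := by
    intro x
    have : (σ : F →+* F).comp (algebraMap (ZMod p) F) = algebraMap (ZMod p) F := Subsingleton.elim _ _
    exact RingHom.congr_fun this x
  let χ : F ≃ₐ[ZMod p] F := AlgEquiv.ofRingEquiv (f := σ) hσ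
  let τ : K ≃+* K := (χ.liftNormal K).toRingEquiv
  have hτ : ∀ c : F, τ (algebraMap F K c) = algebraMap F K (σ c) := fun c => χ.liftNormal_commutes K c
  refine ⟨τ, fun c z => by rw [Algebra.smul_def, Algebra.smul_def, map_mul, hτ], fun z => ?_⟩
  have h := Algebra.trace_eq_of_equiv_equiv σ τ (by
    ext c
    exact (hτ c).symm) z
  rw [h, RingEquiv.apply_symm_apply]

/-- a parameter for the first generator -/
theorem exists_a {g : Kˣ} (hg : ∀ x : Kˣ, x ∈ Subgroup.zpowers g) (u : Kˣ) :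
    ∃ a : Kˣ, u * (a * a) = g ∨ u * (a * a) = g ^ 2 := by
  obtain ⟨k, hk⟩ := Subgroup.mem_zpowers_iff.1 (hg u)
  rcases Int.even_or_odd' k with ⟨j, hj | hj⟩
  · refine ⟨g ^ (1 - j), Or.inr ?_⟩
    rw [← hk, ← zpow_add, ← zpow_add, ← zpow_natCast]
    congr 1
    rw [hj]
    push_cast
    ring
  · refine ⟨g ^ (-j), Or.inl ?_⟩
    rw [← hk, ← zpow_add, ← zpow_add]
    conv_rhs => rw [← zpow_one g]
    congr 1
    rw [hj]
    ring

theorem semi_PU (z : K) : Semi (fn (BL F K)) (PU z) 1 1 :=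
  semi_T BL_alt (by simp [BL_apply, ee, kx]) (PU_apply z)

/-- the parameters of the first generator -/
theorem exists_param [Finite K] {g : Kˣ} (hg : ∀ x : Kˣ, x ∈ Subgroup.zpowers g) (δ : Fˣ)
    (hK : 3 < Nat.card K ∨ Nat.card K = 3 ∧ δ = 1) :
    ∃ a : Kˣ, (-((δ : F)⁻¹ • ((a : K) * a)) = g ∨ -((δ : F)⁻¹ • ((a : K) * a)) = (g : K) ^ 2) ∧
      -((δ : F)⁻¹ • ((a : K) * a)) ≠ 1 := by
  have hord : orderOf g = Nat.card K - 1 := by
    rw [orderOf_eq_card_of_forall_mem_zpowers hg, Nat.card_units]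
  rcases hK with hK | ⟨hK, rfl⟩
  · let u : Kˣ := -(Units.map (algebraMap F K : F →* K) δ)⁻¹
    obtain ⟨a, ha⟩ := exists_a hg u
    have e : -((δ : F)⁻¹ • ((a : K) * a)) = ((u * (a * a) : Kˣ) : K) := by
      simp only [u, Algebra.smul_def, _root_.map_inv₀, _root_.neg_mul, _root_.Units.val_neg, _root_.Units.val_mul, _root_.Units.val_inv_eq_inv_val, _root_.Units.coe_map, _root_.MonoidHom.coe_coe]
    have hg1 : g ≠ 1 := by
      rintro rfl
      rw [orderOf_one] at hord
      omega
    have hg2 : g ^ 2 ≠ 1 := by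
      intro h
      have := Nat.le_of_dvd (by norm_num) (orderOf_dvd_of_pow_eq_one h)
      omega
    refine ⟨a, ?_, ?_⟩
    · rw [e]
      rcases ha with ha | ha
      · exact Or.inl (by rw [ha])
      · exact Or.inr (by rw [ha, Units.val_pow_eq_pow_val])
    · rw [e]
      intro h
      have h1 : u * (a * a) = 1 := Units.ext h
      rcases ha with ha | ha
      · exact hg1 (ha.symm.trans h1)
      · exact hg2 (ha.symm.trans h1)
  · -- the field with three elements
    have hg1 : g ≠ 1 := by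
      rintro rfl
      rw [orderOf_one] at hord
      omega
    have hg2 : g ^ 2 = 1 := by
      have := pow_orderOf_eq_one g
      rwa [hord, hK] at this
    have h3 : (g : K) = -1 := by
      have h4 : ((g : K) - 1) * ((g : K) + 1) = 0 := by
        have h5 := congrArg (fun x : Kˣ => (x : K)) hg2
        simp only [Units.val_pow_eq_pow_val, Units.val_one] at h5
        linear_combination h5
      rcases mul_eq_zero.1 h4 with h5 | h5
      · exact absurd (Units.ext (by rw [Units.val_one]; linear_combination h5)) hg1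
      · linear_combination h5
    have e : -(((1 : Fˣ) : F)⁻¹ • (((1 : Kˣ) : K) * ((1 : Kˣ) : K))) = -1 := by simp
    refine ⟨1, Or.inl (by rw [e, h3]), ?_⟩
    rw [e, ← h3]
    intro h
    exact hg1 (Units.ext h)

/-- **the pair in the model**, transvection form -/
theorem exists_pair_model [Finite K] [FiniteDimensional F K] [Algebra.IsSeparable F K] (δ μ : Fˣ) (σ : F ≃+* F)
    (hK : 3 < Nat.card K ∨ Nat.card K = 3 ∧ δ = 1) :
    ∃ h y : Equiv.Perm (M F K), Semi (fn (BL F K)) h 1 (δ : F) ∧ Semi (fn (BL F K)) y σ (μ : F) ∧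
      ∀ u : M F K, X (BL F K) (_root_.Subgroup.closure ({h, y} : Set (Equiv.Perm (M F K)))) u := by
  have : Finite F := Finite.of_injective (algebraMap F K) (algebraMap F K).injective
  obtain ⟨g, hg⟩ := IsCyclic.exists_generator (α := Kˣ)
  obtain ⟨τ, hτ, htr⟩ := exists_tau (K := K) σ
  obtain ⟨a, ha, ha1⟩ := exists_param hg δ hK
  obtain ⟨d, κ, hdκ, h2⟩ : ∃ d κ : Fˣ, (d : F) ^ 2 * κ = μ ∧ (κ = 1 ∨ (2 : F) ≠ 0) := by
    by_cases h2 : (2 : F) = 0
    · have hch : ringChar F = 2 := by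
        refine CharP.ringChar_of_prime_eq_zero Nat.prime_two ?_
        exact_mod_cast h2
      obtain ⟨x, hx⟩ := FiniteField.isSquare_of_char_two hch (μ : F)
      have hx0 : x ≠ 0 := by
        rintro rfl
        rw [mul_zero] at hx
        exact μ.ne_zero hx
      exact ⟨Units.mk0 x hx0, 1, by rw [hx, Units.val_mk0, Units.val_one]; ring, Or.inl rfl⟩
    · exact ⟨1, μ, by rw [Units.val_one]; ring, Or.inr h2⟩
  refine ⟨hP a δ, PU 1 * nP σ τ d κ, semi_hP a δ, ?_, ?_⟩
  · have h := (semi_PU (F := F) (1 : K)).mul (semi_nP hτ htr d κ)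
    rw [one_mul, one_mul] at h
    have e : (1 : F ≃+* F) ((d : F) ^ 2 * κ) = μ := hdκ
    rw [e] at h
    exact h
  · set C := _root_.Subgroup.closure ({hP a δ, PU 1 * nP σ τ d κ} : Set (Equiv.Perm (M F K)))
    obtain ⟨hX, hn⟩ := lift_core hg hτ htr (d := d) (κ := κ) ha ha1 (C := C) (_root_.Subgroup.subset_closure (by simp)) (_root_.Subgroup.subset_closure (by simp))
    refine X_all_of_n hτ htr hn (fun z c => ?_) h2
    refine ⟨PU (c • z), hX ⟨_, rfl⟩, fun v => ?_⟩
    rw [PU_apply]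
    congr 1
    simp only [kx]
    ext <;> simp only [_root_.Prod.smul_mk, _root_.smul_zero, _root_.smul_eq_mul, _root_.MulZeroClass.mul_zero]

/-- all isometries from all transvections -/
theorem mem_of_X [Finite K] [FiniteDimensional F K] [Algebra.IsSeparable F K] {C : Subgroup (Equiv.Perm (M F K))}
    (hX : ∀ u : M F K, X (BL F K) C u) {g : Equiv.Perm (M F K)} (hg : Semi (fn (BL F K)) g 1 1) : g ∈ C := by
  obtain ⟨k, hk⟩ : ∃ k, Module.finrank F K = k := ⟨_, rfl⟩
  let b : Module.Basis (Fin k) F K := (Module.finBasis F K).reindex (finCongr hk)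
  let N : Subgroup (Matrix.symplecticGroup (Fin (k + 1)) F) :=
    { carrier := {A | ∃ x ∈ C, ∀ v, Phi b (A.1 *ᵥ v) = x (Phi b v)}
      mul_mem' := by
        rintro A A' ⟨x, hx, h⟩ ⟨x', hx', h'⟩
        refine ⟨x * x', C.mul_mem hx hx', fun v => ?_⟩
        show Phi b ((A.1 * A'.1) *ᵥ v) = x (x' (Phi b v))
        rw [← Matrix.mulVec_mulVec, h, h']
      one_mem' := ⟨1, C.one_mem, fun v => by
        show Phi b ((1 : Matrix _ _ F) *ᵥ v) = Phi b v
        rw [Matrix.one_mulVec]⟩
      inv_mem' := by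
        rintro A ⟨x, hx, h⟩
        refine ⟨x⁻¹, C.inv_mem hx, fun v => ?_⟩
        apply x.injective
        have e1 : x (x⁻¹ (Phi b v)) = Phi b v := Equiv.apply_symm_apply x _
        have e2 : A.1 * (A⁻¹).1 = 1 := congrArg Subtype.val (mul_inv_cancel A)
        rw [e1, ← h, Matrix.mulVec_mulVec, e2, Matrix.one_mulVec] }
  have hN : N = ⊤ := by
    rw [eq_top_iff, ← Cfsg.Agent.S0765.result, Subgroup.closure_le]
    rintro A ⟨w, c, hA⟩
    obtain ⟨x, hx, h⟩ := hX (Phi b w) c
    refine ⟨x, hx, fun v => ?_⟩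
    rw [h, hA, sympTransvection_mulVec, map_add, map_smul]
    show _ = Phi b v + (c * BL F K (Phi b v) (Phi b w)) • Phi b w
    have e : BL F K (Phi b v) (Phi b w) = sympForm (k + 1) F v w := B_Phi b v w
    rw [e]
  let g' : M F K ≃ₗ[F] M F K :=
    { toFun := g
      invFun := g.symm
      map_add' := hg.add
      map_smul' := hg.smul
      left_inv := g.left_inv
      right_inv := g.right_inv }
  have hg' : g' ∈ Sp F K := by
    intro u v
    have := hg.form u v
    rw [one_mul] at this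
    exact this
  have h1 : psi b ⟨g', hg'⟩ ∈ N := by rw [hN]; exact mem_top _
  obtain ⟨x, hx, h⟩ := h1
  have e : g = x := by
    ext1 v
    have h2 := h ((Phi b).symm v)
    rw [psi_mulVec, LinearEquiv.apply_symm_apply, LinearEquiv.apply_symm_apply] at h2
    exact h2
  rw [e]
  exact hx

/-- **the lifting property of the model** -/
theorem liftP_model [Finite K] [FiniteDimensional F K] [Algebra.IsSeparable F K] {δ μ : F} (hδ : δ ≠ 0) (hμ : μ ≠ 0)
    (σ : F ≃+* F) (hK : 3 < Nat.card K ∨ Nat.card K = 3 ∧ δ = 1) : LiftP (fn (BL F K)) δ σ μ := by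
  obtain ⟨h, y, h1, h2, h3⟩ := exists_pair_model (K := K) (Units.mk0 δ hδ) (Units.mk0 μ hμ) σ (by
    rcases hK with hK | ⟨hK, rfl⟩
    · exact Or.inl hK
    · exact Or.inr ⟨hK, Units.ext rfl⟩)
  exact ⟨h, y, h1, h2, fun g hg => mem_of_X h3 hg⟩

end Cfsg.Agent.H484.GenSp
end

-- part: H484/GenSpRow
section
/-!
# TEAM GEN: the row `sp` of `LinRows` (helper484)
-/

set_option autoImplicit false

namespace Cfsg.Agent.H484.GenSp

open Cfsg Cfsg.Agent.H137.SpModel Cfsg.Agent.H137 Subgroup Cfsg.Agent.ClassicalGeometry.SympBasic Module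
  Cfsg.Agent.H440.TwoGen Cfsg.Agent.H891.Gen Cfsg.Agent.H490.Der

universe u

section iso

variable {F V W : Type*} [Field F] [AddCommGroup V] [Module F V] [AddCommGroup W] [Module F W]
  {f : V → V → F} {f' : W → W → F}

/-- conjugation by an isometry -/
def cj (e : V ≃ₗ[F] W) : Equiv.Perm W ≃* Equiv.Perm V := (e.symm.toEquiv).permCongrHom

theorem cj_apply (e : V ≃ₗ[F] W) (g : Equiv.Perm W) (v : V) : cj e g v = e.symm (g (e v)) := rfl

theorem cj_symm_apply (e : V ≃ₗ[F] W) (g : Equiv.Perm V) (w : W) : (cj e).symm g w = e (g (e.symm w)) := rfl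

theorem Semi.cj {e : V ≃ₗ[F] W} (he : ∀ u v, f' (e u) (e v) = f u v) {g : Equiv.Perm W} {σ : F ≃+* F} {μ : F}
    (h : Semi f' g σ μ) : Semi f (cj e g) σ μ where
  add u v := by rw [cj_apply, cj_apply, cj_apply, map_add, h.add, map_add]
  smul c v := by rw [cj_apply, cj_apply, map_smul, h.smul, map_smul]
  form u v := by rw [cj_apply, cj_apply, ← he, LinearEquiv.apply_symm_apply, LinearEquiv.apply_symm_apply, h.form, he]

theorem Semi.cj_symm {e : V ≃ₗ[F] W} (he : ∀ u v, f' (e u) (e v) = f u v) {g : Equiv.Perm V} {σ : F ≃+* F} {μ : F}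
    (h : Semi f g σ μ) : Semi f' ((GenSp.cj e).symm g) σ μ where
  add u v := by rw [cj_symm_apply, cj_symm_apply, cj_symm_apply, map_add, h.add, map_add]
  smul c v := by rw [cj_symm_apply, cj_symm_apply, map_smul, h.smul, map_smul]
  form u v := by
    rw [cj_symm_apply, cj_symm_apply, he, h.form, ← he, LinearEquiv.apply_symm_apply, LinearEquiv.apply_symm_apply]

theorem closure_cj (e : V ≃ₗ[F] W) {a b : Equiv.Perm W} {g : Equiv.Perm V}
    (h : (cj e).symm g ∈ _root_.Subgroup.closure ({a, b} : Set (Equiv.Perm W))) :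
    g ∈ _root_.Subgroup.closure ({cj e a, cj e b} : Set (Equiv.Perm V)) := by
  have h1 := Subgroup.mem_map_of_mem (cj e).toMonoidHom h
  rw [MonoidHom.map_closure, Set.image_pair] at h1
  have e1 : (cj e).toMonoidHom ((cj e).symm g) = g := (cj e).apply_symm_apply g
  rw [e1] at h1
  exact h1

theorem LiftP.of_iso {e : V ≃ₗ[F] W} (he : ∀ u v, f' (e u) (e v) = f u v) {δ μ : F} {σ : F ≃+* F}
    (h : LiftP f' δ σ μ) : LiftP f δ σ μ := by
  obtain ⟨x, y, hx, hy, h⟩ := h
  exact ⟨GenSp.cj e x, GenSp.cj e y, hx.cj he, hy.cj he, fun g hg => closure_cj e (h _ (hg.cj_symm he))⟩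

/-- a generating pair of `Sp` with a fixed vector -/
def FixP (f : V → V → F) (n : ℕ) : Prop :=
  ∃ a b : Equiv.Perm V, Semi f a 1 1 ∧ Semi f b 1 1 ∧
    (∀ g : Equiv.Perm V, Semi f g 1 1 → g ∈ _root_.Subgroup.closure ({a, b} : Set (Equiv.Perm V))) ∧ a ^ n = 1 ∧
      ∃ v : V, v ≠ 0 ∧ a v = v

theorem FixP.of_iso {e : V ≃ₗ[F] W} (he : ∀ u v, f' (e u) (e v) = f u v) {n : ℕ} (h : FixP f' n) : FixP f n := by
  obtain ⟨a, b, ha, hb, h, hn, v, hv, hav⟩ := h
  refine ⟨GenSp.cj e a, GenSp.cj e b, ha.cj he, hb.cj he, fun g hg => closure_cj e (h _ (hg.cj_symm he)), ?_, e.symm v,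
    ?_, ?_⟩
  · rw [← map_pow, hn, map_one]
  · exact (map_ne_zero_iff _ e.symm.injective).2 hv
  · rw [cj_apply, LinearEquiv.apply_symm_apply, hav]

end iso

/-- the pair of helper137 -/
theorem fixP_model {F K : Type*} [Field F] [Field K] [Algebra F K] [Finite K] [FiniteDimensional F K]
    [Algebra.IsSeparable F K] (hK : 2 < Nat.card K) : FixP (fn (BL F K)) (Nat.card K - 1) := by
  have : Finite F := Finite.of_injective (algebraMap F K) (algebraMap F K).injective
  obtain ⟨g, hg⟩ := IsCyclic.exists_generator (α := Kˣ)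
  have hord : orderOf g = Nat.card K - 1 := by
    rw [orderOf_eq_card_of_forall_mem_zpowers hg, Nat.card_units]
  have hg1 : g ≠ 1 := by
    rintro rfl
    rw [orderOf_one] at hord
    omega
  let Φ : (M F K ≃ₗ[F] M F K) →* Equiv.Perm (M F K) :=
    { toFun := fun g => g.toEquiv
      map_one' := rfl
      map_mul' := fun _ _ => rfl }
  have hSemi : ∀ x ∈ Sp F K, Semi (fn (BL F K)) (Φ x) 1 1 := fun x hx =>
    { add := fun u v => x.map_add u v
      smul := fun c v => x.map_smul c v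
      form := fun u v => by
        rw [one_mul]
        exact hx u v }
  set H := _root_.Subgroup.closure {S (F := F) g, U (F := F) (1 : K) * w} with hH
  have h1 : S (F := F) g ∈ H := _root_.Subgroup.subset_closure (by simp)
  have h2 : U (F := F) (1 : K) * w ∈ H := _root_.Subgroup.subset_closure (by simp)
  have hHS : H ≤ Sp F K := by
    rw [hH, closure_le]
    rintro x (rfl | rfl)
    · exact S_mem g
    · exact (Sp F K).mul_mem (U_mem 1) w_mem
  obtain ⟨hU, hw⟩ := U_w_mem hg hg1 h1 h2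
  refine ⟨Φ (S g), Φ (U 1 * w), hSemi _ (S_mem g), hSemi _ ((Sp F K).mul_mem (U_mem 1) w_mem), ?_, ?_,
    ee K 1 0, ?_, ?_⟩
  · intro x hx
    refine mem_of_X (fun u c => ?_) hx
    obtain ⟨y, hy, hv⟩ := SpModel.X_all hHS hU hw u c
    refine ⟨Φ y, ?_, hv⟩
    have h3 := Subgroup.mem_map_of_mem Φ hy
    rwa [hH, MonoidHom.map_closure, Set.image_pair] at h3
  · rw [← map_pow]
    have h3 : S (F := F) g ^ (Nat.card K - 1) = 1 := by
      have h4 := S_zpow (F := F) g ((Nat.card K - 1 : ℕ) : ℤ)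
      rw [zpow_natCast, zpow_natCast, ← hord, pow_orderOf_eq_one, S_one] at h4
      rw [← hord]
      exact h4.symm
    rw [h3, map_one]
  · intro h
    have := congrArg (fun v : M F K => v.2.2.1) h
    simp [ee] at this
  · show S g (ee K 1 0) = ee K 1 0
    rw [S_apply]
    simp [ee]

/-- coordinates for an alternating form -/
theorem exists_coord {F V : Type*} [Field F] [AddCommGroup V] [Module F V] [FiniteDimensional F V]
    (f : LinearMap.BilinForm F V) (hf : f.IsAlt) (hn : f.Nondegenerate) :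
    ∃ m : ℕ, finrank F V = 2 * m ∧ ∃ e : V ≃ₗ[F] (Fin m ⊕ Fin m → F), ∀ u v, sympForm m F (e u) (e v) = f u v := by
  obtain ⟨m, k, b, h1, h2, h3, h4⟩ := Cfsg.Agent.S0752.result f hf
  have hk : k = 0 := by
    by_contra hk
    have h5 : b (Sum.inr ⟨0, Nat.pos_of_ne_zero hk⟩) = 0 := hn.1 _ (fun v => h4 _ v)
    exact b.ne_zero _ h5
  subst hk
  let b' : Basis (Fin m ⊕ Fin m) F V := b.reindex ((Equiv.sumEmpty (Fin m ⊕ Fin m) (Fin 0)).trans (Equiv.sumComm _ _))
  have hl : ∀ i, b' (Sum.inl i) = b (Sum.inl (Sum.inr i)) := fun i => by simp [b']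
  have hr : ∀ i, b' (Sum.inr i) = b (Sum.inl (Sum.inl i)) := fun i => by simp [b']
  refine ⟨m, ?_, b'.equivFun, ?_⟩
  · rw [finrank_eq_card_basis b', Fintype.card_sum, Fintype.card_fin]
    ring
  · have key : (sympBilin m F).compl₁₂ (b'.equivFun : V →ₗ[F] (Fin m ⊕ Fin m → F))
        (b'.equivFun : V →ₗ[F] (Fin m ⊕ Fin m → F)) = f := by
      refine b'.ext fun i => b'.ext fun j => ?_
      have hs : ∀ x y, f x y = - f y x := fun x y => (hf.neg_eq y x).symm
      have hsg : ∀ i, b'.equivFun (b' i) = Pi.single i 1 := by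
        intro i
        funext x
        rw [Basis.equivFun_self, Pi.single_apply]
        simp only [eq_comm]
      simp only [LinearMap.compl₁₂_apply, LinearEquiv.coe_coe, sympBilin_apply, hsg]
      rcases i with i | i <;> rcases j with j | j
      · rw [hl, hl, h3, sympForm_single_inl_left]
        simp
      · rw [hl, hr, hs, h1, sympForm_single_inl_left, Pi.single_apply]
        simp [eq_comm]
      · rw [hl, hr, h1, sympForm_single_inr_left, Pi.single_apply]
        simp
      · rw [hr, hr, h2, sympForm_single_inr_left]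
        simp
    intro u v
    exact LinearMap.congr_fun (LinearMap.congr_fun key u) v

/-- a field with three elements has no automorphisms -/
theorem ringAut_three {F : Type*} [Field F] [Finite F] (h : Nat.card F = 3) (σ : F ≃+* F) : σ = 1 := by
  have := Fintype.ofFinite F
  ext x
  show σ x = x
  have h1 : x ^ 3 = x := by
    have := FiniteField.pow_card x
    rwa [← Nat.card_eq_fintype_card, h] at this
  have h2 : x * ((x - 1) * (x + 1)) = 0 := by linear_combination h1
  rcases mul_eq_zero.1 h2 with h3 | h3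
  · rw [h3, map_zero]
  · rcases mul_eq_zero.1 h3 with h4 | h4
    · have h5 : x = 1 := by linear_combination h4
      rw [h5, map_one]
    · have h5 : x = -1 := by linear_combination h4
      rw [h5, map_neg, map_one]

section row

/-- the underlying permutation -/
def toPm {p : ℕ} {V : Type u} [AddCommGroup V] [Module (ZMod p) V] : (V ≃ₗ[ZMod p] V) →* Equiv.Perm V where
  toFun g := g.toEquiv
  map_one' := rfl
  map_mul' _ _ := rfl

theorem toPm_apply {p : ℕ} {V : Type u} [AddCommGroup V] [Module (ZMod p) V] (g : V ≃ₗ[ZMod p] V) (v : V) :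
    toPm g v = g v := rfl

theorem toPm_injective {p : ℕ} {V : Type u} [AddCommGroup V] [Module (ZMod p) V] :
    Function.Injective (toPm : (V ≃ₗ[ZMod p] V) →* Equiv.Perm V) := by
  intro g h e
  ext v
  exact congrArg (fun k : Equiv.Perm V => k v) e

theorem nsmul_p (p : ℕ) {V : Type*} [AddCommGroup V] [Module (ZMod p) V] (v : V) : p • v = 0 := by
  rw [← Nat.cast_smul_eq_nsmul (ZMod p), ZMod.natCast_self, zero_smul]

variable {p : ℕ} [hp : Fact p.Prime] {V : Type u} [AddCommGroup V] [Module (ZMod p) V] [Finite V]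

/-- `Small` in odd characteristic -/
theorem small_odd [Nontrivial V] (hp2 : p ≠ 2) {G : Subgroup (V ≃ₗ[ZMod p] V)} {z : V ≃ₗ[ZMod p] V} (hz : z ∈ G)
    (hzv : ∀ v, z v = -v) : Small ↥G V := by
  have hfin : Finite (V ≃ₗ[ZMod p] V) := Finite.of_injective (fun g => (g : V → V)) DFunLike.coe_injective
  have hcen : ∀ g : V ≃ₗ[ZMod p] V, g * z = z * g := by
    intro g
    ext v
    show g (z v) = z (g v)
    rw [hzv, hzv, map_neg]
  let z' : ↥G := ⟨z, hz⟩
  have hz2 : z' ^ 2 = 1 := by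
    apply Subtype.ext
    show z ^ 2 = 1
    ext v
    show z (z v) = v
    rw [hzv, hzv, neg_neg]
  have hnorm : (Subgroup.zpowers z').Normal := by
    refine ⟨?_⟩
    intro n hn g
    obtain ⟨k, rfl⟩ := Subgroup.mem_zpowers_iff.1 hn
    have h1 : g * z' = z' * g := Subtype.ext (hcen g)
    have h2 : Commute g z' := h1
    have h3 : g * z' ^ k * g⁻¹ = z' ^ k := by
      rw [(h2.zpow_right k).eq, mul_inv_cancel_right]
    rw [h3]
    exact hn
  have hnt2 : ∀ v : V, -v = v → v = 0 := by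
    intro v hv
    have h2 : 2 • v = 0 := by
      rw [two_nsmul]
      nth_rewrite 1 [← hv]
      rw [neg_add_cancel]
    have h3 : addOrderOf v ∣ 2 := addOrderOf_dvd_of_nsmul_eq_zero h2
    have h4 : addOrderOf v ∣ p := addOrderOf_dvd_of_nsmul_eq_zero (nsmul_p p v)
    have h5 : addOrderOf v ∣ 1 := by
      have hco : Nat.Coprime 2 p := (Nat.coprime_primes Nat.prime_two hp.out).2 (Ne.symm hp2)
      rw [← hco]
      exact Nat.dvd_gcd h3 h4
    exact AddMonoid.addOrderOf_eq_one_iff.1 (Nat.dvd_one.1 h5)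
  refine small_of_normal (Subgroup.zpowers z') (fun v hv => hnt2 v ?_) ?_
  · have h1 := hv z' (Subgroup.mem_zpowers z')
    have h2 : z v = v := h1
    rwa [hzv] at h2
  · refine small_of_coprime hp.out (nsmul_p p) ?_
    rw [Nat.card_zpowers]
    intro h
    have h1 : orderOf z' ∣ 2 := orderOf_dvd_of_pow_eq_one hz2
    exact hp2 ((Nat.prime_dvd_prime_iff_eq hp.out Nat.prime_two).1 (h.trans h1))

/-- `Small` in characteristic two -/
theorem small_two {F : Type*} [Field F] [Module F V] {f : V → V → F} {G : Subgroup (V ≃ₗ[ZMod p] V)} {n : ℕ}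
    (hG : ∀ g ∈ G, ∃ (σ : F ≃+* F) (μ : F), μ ≠ 0 ∧ Semi f (toPm g) σ μ)
    (hSp : ∀ g : Equiv.Perm V, Semi f g 1 1 → ∃ h ∈ G, toPm h = g)
    (hfix : ∀ v : V, (∀ g : Equiv.Perm V, Semi f g 1 1 → g v = v) → v = 0)
    (hP : FixP f n) (hn : ¬ p ∣ n) : Small ↥G V := by
  have hfin : Finite (V ≃ₗ[ZMod p] V) := Finite.of_injective (fun g => (g : V → V)) DFunLike.coe_injective
  let B : Subgroup ↥G :=
    { carrier := {g | Semi f (toPm (g : V ≃ₗ[ZMod p] V)) 1 1}
      mul_mem' := by
        intro a b ha hb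
        have := Semi.mul ha hb
        rw [mul_one, one_mul] at this
        exact this
      one_mem' := Semi.one
      inv_mem' := by
        intro a ha
        have := Semi.inv ha one_ne_zero
        rw [inv_one, inv_one, map_one] at this
        exact this }
  have hBn : B.Normal := by
    refine ⟨?_⟩
    intro x hx g
    obtain ⟨σ, μ, hμ, hg⟩ := hG g g.2
    have h1 := (hg.mul hx).mul (hg.inv hμ)
    rw [mul_one, mul_inv_cancel, map_one, mul_one] at h1
    have e : μ * σ (σ⁻¹ μ⁻¹) = 1 := by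
      have : σ (σ⁻¹ μ⁻¹) = μ⁻¹ := σ.apply_symm_apply _
      rw [this, mul_inv_cancel₀ hμ]
    rw [e] at h1
    exact h1
  obtain ⟨a, b, ha, hb, hab, han, v, hv, hav⟩ := hP
  obtain ⟨a₁, ha₁, ea⟩ := hSp a ha
  obtain ⟨b₁, hb₁, eb⟩ := hSp b hb
  let a' : ↥B := ⟨⟨a₁, ha₁⟩, by
    show Semi f (toPm a₁) 1 1
    rw [ea]
    exact ha⟩
  let b' : ↥B := ⟨⟨b₁, hb₁⟩, by
    show Semi f (toPm b₁) 1 1
    rw [eb]
    exact hb⟩
  let Ψ : ↥B →* Equiv.Perm V := toPm.comp (G.subtype.comp B.subtype)
  have hΨ : Function.Injective Ψ := fun x y h => Subtype.ext (Subtype.ext (toPm_injective h))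
  have hcl : _root_.Subgroup.closure ({a', b'} : Set ↥B) = ⊤ := by
    rw [eq_top_iff]
    intro x _
    have h1 : Ψ x ∈ _root_.Subgroup.closure ({a, b} : Set (Equiv.Perm V)) := hab _ x.2
    have h2 : (closure ({a', b'} : Set ↥B)).map Ψ = closure ({a, b} : Set (Equiv.Perm V)) := by
      rw [MonoidHom.map_closure, Set.image_pair, show Ψ a' = a from ea, show Ψ b' = b from eb]
    rw [← h2] at h1
    obtain ⟨y, hy, hyx⟩ := h1
    rwa [hΨ hyx] at hy
  refine small_of_normal B (fun v hv => hfix v fun g hg => ?_) ?_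
  · obtain ⟨g₁, hg₁, rfl⟩ := hSp g hg
    exact hv ⟨g₁, hg₁⟩ hg
  · refine small_of_fixed hp.out (nsmul_p p) hcl (n := n) ?_ hn hv ?_
    · apply hΨ
      rw [map_pow, map_one]
      have : Ψ a' = a := ea
      rw [this, han]
    · show a₁ v = v
      rw [← toPm_apply, ea, hav]

end row

/-- The row `sp` of `LinRows` without `Sp_4(2)`. -/
theorem sp_row : ∀ (p : ℕ) [Fact p.Prime] (V : Type u) [AddCommGroup V] [Module (ZMod p) V] [Finite V]
    (G : Subgroup (V ≃ₗ[ZMod p] V)) (F : Type) [Field F] [Fintype F] [Module F V] (f : LinearMap.BilinForm F V),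
    4 ≤ finrank F V → (finrank F V = 4 → 3 ≤ Fintype.card F) → f.IsAlt → f.Nondegenerate →
    (∀ g ∈ G, ∃ (σ : F ≃+* F) (μ : F), (∀ (c : F) (v : V), g (c • v) = σ c • g v) ∧
      ∀ u v, f (g u) (g v) = μ * σ (f u v)) →
    (∀ g : V ≃ₗ[F] V, (∀ u v, f (g u) (g v) = f u v) → ∃ h ∈ G, ∀ v, h v = g v) → LGood G := by
  intro p hp V _ _ _ G F _ _ _ f h4 h3 hf hn hG hSp
  have hfd : FiniteDimensional F V := Module.Finite.of_finite
  obtain ⟨m, hm, e, he⟩ := exists_coord f hf hn
  obtain ⟨k, rfl⟩ : ∃ k, m = k + 1 := ⟨m - 1, by omega⟩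
  have hk : k ≠ 0 := by omega
  obtain ⟨K, _, _, _, hK⟩ := exists_ext F k hk
  have hfd' : FiniteDimensional F K := Module.finite_of_finrank_pos (by omega)
  have hsep : Algebra.IsSeparable F K := inferInstance
  let b : Module.Basis (Fin k) F K := (Module.finBasis F K).reindex (finCongr hK)
  let E : V ≃ₗ[F] M F K := e.trans (Phi b)
  have hE : ∀ u v, fn (BL F K) (E u) (E v) = fn f u v := by
    intro u v
    show BL F K (Phi b (e u)) (Phi b (e v)) = f u v
    rw [← he]
    exact B_Phi b _ _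
  have hcK : Nat.card K = Fintype.card F ^ k := by
    rw [Module.natCard_eq_pow_finrank (K := F) (V := K), hK, Nat.card_eq_fintype_card]
  have hq2 : 2 ≤ Fintype.card F := Fintype.one_lt_card
  have hK3 : 3 < Nat.card K ∨ Nat.card K = 3 ∧ Nat.card F = 3 := by
    rw [hcK, Nat.card_eq_fintype_card]
    by_cases hk1 : k = 1
    · rw [hk1, pow_one]
      have := h3 (by omega)
      omega
    · left
      calc 3 < 2 ^ 2 := by norm_num
        _ ≤ 2 ^ k := Nat.pow_le_pow_right (by norm_num) (by omega)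
        _ ≤ Fintype.card F ^ k := Nat.pow_le_pow_left hq2 k
  have hnt : Nontrivial V := Module.nontrivial_of_finrank_pos (R := F) (by omega)
  -- semisimilarities
  have hG' : ∀ g ∈ G, ∃ (σ : F ≃+* F) (μ : F), μ ≠ 0 ∧ Semi (fn f) (toPm g) σ μ := by
    intro g hg
    obtain ⟨σ, μ, h1, h2⟩ := hG g hg
    refine ⟨σ, μ, ?_, ⟨fun u v => map_add g u v, h1, h2⟩⟩
    rintro rfl
    obtain ⟨v, hv⟩ := exists_ne (0 : V)
    refine hv (hn.1 v fun w => ?_)
    have h5 := h2 (g.symm v) (g.symm w)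
    rwa [LinearEquiv.apply_symm_apply, LinearEquiv.apply_symm_apply, zero_mul] at h5
  have hSp' : ∀ g : Equiv.Perm V, Semi (fn f) g 1 1 → ∃ h ∈ G, toPm h = g := by
    intro g hg
    let g' : V ≃ₗ[F] V :=
      { toFun := g
        invFun := g.symm
        map_add' := hg.add
        map_smul' := hg.smul
        left_inv := g.left_inv
        right_inv := g.right_inv }
    obtain ⟨h, hh, h1⟩ := hSp g' (fun u v => by
      have := hg.form u v
      rw [one_mul] at this
      exact this)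
    exact ⟨h, hh, Equiv.ext h1⟩
  have hfinG : Finite (V ≃ₗ[ZMod p] V) := Finite.of_injective (fun g => (g : V → V)) DFunLike.coe_injective
  constructor
  · -- two generators
    have h1 : ∀ g : Equiv.Perm V, Semi (fn f) g 1 1 → g ∈ G.map toPm := by
      intro g hg
      obtain ⟨h, hh, e⟩ := hSp' g hg
      exact ⟨h, hh, e⟩
    have h2 : ∀ g ∈ G.map toPm, ∃ (σ : F ≃+* F) (μ : F), μ ≠ 0 ∧ Semi (fn f) g σ μ := by
      rintro _ ⟨g, hg, rfl⟩
      exact hG' g hg
    have h5 : TwoGen ↥(G.map toPm) := by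
      rcases hK3 with hK3 | ⟨hK3, hF3⟩
      · exact twoGen_of_lift h1 h2 fun δ σ μ hδ hμ => (liftP_model hδ hμ σ (Or.inl hK3)).of_iso hE
      · exact twoGen_of_lift_prime (ringAut_three hF3) h1 h2 fun μ hμ =>
          (liftP_model one_ne_zero hμ 1 (Or.inr ⟨hK3, rfl⟩)).of_iso hE
    exact h5.of_equiv (G.equivMapOfInjective toPm toPm_injective).symm
  · -- few derivations
    by_cases hp2 : p = 2
    · have h2 : (2 : F) = 0 := by
        obtain ⟨v, hv⟩ := exists_ne (0 : V)
        have h5 : (2 : F) • v = 0 := by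
          have h6 := nsmul_p p v
          rw [hp2, ← Nat.cast_smul_eq_nsmul F] at h6
          exact_mod_cast h6
        exact (smul_eq_zero.1 h5).resolve_right hv
      have hchar : CharP K 2 := by
        have : CharP F 2 := CharTwo.of_one_ne_zero_of_two_eq_zero one_ne_zero h2
        exact charP_of_injective_algebraMap (algebraMap F K).injective 2
      have heven : 2 ∣ Nat.card K := by
        have := Fintype.ofFinite K
        rw [Nat.card_eq_fintype_card]
        exact (CharP.cast_eq_zero_iff K 2 _).1 (FiniteField.cast_card_eq_zero K)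
      refine small_two hG' hSp' (fun v hv => ?_) ((fixP_model (F := F) (K := K) (by omega)).of_iso hE) ?_
      · -- transvections have no common fixed vector
        by_contra hv0
        obtain ⟨w, hw⟩ : ∃ w, f v w ≠ 0 := by
          by_contra hcon
          push Not at hcon
          exact hv0 (hn.1 v hcon)
        have hsq : f w w = 0 := hf w
        let g : Equiv.Perm V :=
          { toFun := t f 1 w
            invFun := t f (-1) w
            left_inv := fun x => by
              simp only [t, map_add, map_smul, LinearMap.add_apply, LinearMap.smul_apply, hsq]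
              module
            right_inv := fun x => by
              simp only [t, map_add, map_smul, LinearMap.add_apply, LinearMap.smul_apply, hsq]
              module }
        have h5 := hv g (semi_t hf (c := 1) (u := w) (fun _ => rfl))
        have h6 : v + ((1 : F) * f v w) • w = v := h5
        rw [add_eq_left, one_mul, smul_eq_zero] at h6
        rcases h6 with h6 | h6
        · exact hw h6
        · exact hw (by rw [h6, map_zero])
      · rw [hp2]
        have : 0 < Nat.card K := Nat.card_pos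
        omega
    · obtain ⟨z, hz, hzv⟩ := hSp (LinearEquiv.neg F) (fun u v => by simp only [_root_.LinearEquiv.coe_neg, _root_.Pi.neg_apply, _root_.id_eq, _root_.map_neg, _root_.LinearMap.neg_apply, _root_.neg_neg])
      exact small_odd hp2 hz (fun v => by rw [hzv]; simp)

end Cfsg.Agent.H484.GenSp
end

private theorem dce_5460ca1e1269 : _root_.True := by
  try have : _root_.True := by simp only [_root_.Cfsg.Agent.H484.GenSp.t.eq_1]
  try have : _root_.True := by simp only [_root_.Cfsg.Agent.H484.GenSp.kx.eq_1]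
  try have : _root_.True := by simp only [_root_.Cfsg.Agent.H484.GenSp.ee.eq_1]
  try have : _root_.True := by simp only [_root_.Cfsg.Agent.H484.GenSp.ky.eq_1]
  try have : _root_.True := by simp only [_root_.Cfsg.Agent.H484.GenSp.T.eq_1]
  exact _root_.True.intro
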