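import Mathlib
import Cfsg.Prelude.Def_KGroupFacts
import Cfsg.Agent.H341.ThreeList_m3
import Cfsg.Agent.H484.CritClassical
import Cfsg.Agent.S2121
import Cfsg.Agent.S2122
import Cfsg.Agent.S2123
import Cfsg.Agent.S2124
import Cfsg.Agent.S2125
import Cfsg.Agent.S2126
import Cfsg.Agent.S2127
import Cfsg.Agent.S2128
import Cfsg.Agent.S2129
import Cfsg.Agent.S2130
import Cfsg.Agent.Prune
set_option linter.all false
prune_inst 0x7f00000000000000000000000000000000000000000000000000000000000000000000000000000000000000000000000000000000000000000000000000000000000000000000000000000000000000003fffffffffffffffffffffffffffbeffbdffffffff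
open scoped Cfsg.Agent.FastGrp

-- part: H484/CritTable
section
/-!
# The criterion `Crit` for the known simple groups (helper484)

* `OutTable` : the orders of the outer automorphism groups of the exceptional groups (a hypothesis, see `CritFinal`);
* `crit_known` : every nonabelian known simple group satisfies `Crit`.
-/

set_option autoImplicit false

namespace Cfsg.Agent.H484.SylNorm

open Subgroup Cfsg

universe u

/-- the orders of the outer automorphism groups of the exceptional groups of Lie type -/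
structure OutTable : Prop where
  g2 : ∀ (F : Type) [Field F] [Fintype F] (p f : ℕ) [Fact p.Prime] [CharP F p], Fintype.card F = p ^ f →
    3 ≤ p ^ f → Nat.card (Cfsg.Out ↥(Cfsg.Lie.chevG2.group F)) = (if p = 3 then 2 * f else f)
  f4 : ∀ (F : Type) [Field F] [Fintype F] (p f : ℕ) [Fact p.Prime] [CharP F p], Fintype.card F = p ^ f →
    Nat.card (Cfsg.Out ↥(Cfsg.Lie.chevF4.group F)) = Nat.gcd 2 p * f
  e6 : ∀ (F : Type) [Field F] [Fintype F] (p f : ℕ) [Fact p.Prime] [CharP F p], Fintype.card F = p ^ f →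
    Nat.card (Cfsg.Out ↥(Cfsg.Lie.chevE6.group F)) = 2 * Nat.gcd 3 (p ^ f - 1) * f
  e7 : ∀ (F : Type) [Field F] [Fintype F] (p f : ℕ) [Fact p.Prime] [CharP F p], Fintype.card F = p ^ f →
    Nat.card (Cfsg.Out ↥(Cfsg.Lie.chevE7.group F)) = Nat.gcd 2 (p ^ f - 1) * f
  e8 : ∀ (F : Type) [Field F] [Fintype F] (p f : ℕ) [Fact p.Prime] [CharP F p], Fintype.card F = p ^ f →
    Nat.card (Cfsg.Out ↥(Cfsg.Lie.chevE8.group F)) = f
  sz : ∀ (F : Type) [Field F] [Fintype F] (m : ℕ), 1 ≤ m → Fintype.card F = 2 ^ (2 * m + 1) →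
    Nat.card (Cfsg.Out ↥(Cfsg.Lie.Sz F (2 ^ (m + 1)))) = 2 * m + 1
  ree : ∀ (K : Type) [Field K] [Fintype K] (m : ℕ), 1 ≤ m → Fintype.card K = 3 ^ (2 * m + 1) →
    Nat.card (Cfsg.Out ↥(Cfsg.Lie.twistedG2 K (3 ^ m))) = 2 * m + 1
  tf4 : ∀ (K : Type) [Field K] [Fintype K] (m : ℕ), 1 ≤ m → Fintype.card K = 2 ^ (2 * m + 1) →
    Nat.card (Cfsg.Out ↥(Cfsg.Lie.twistedF4 K (2 ^ m))) = 2 * m + 1
  td4 : ∀ (K : Type) [Field K] [Fintype K] (p f : ℕ) [Fact p.Prime] [CharP K p],
    Fintype.card K = p ^ (3 * f) → 1 ≤ f → Nat.card (Cfsg.Out ↥(Cfsg.Lie.twistedD4 K (p ^ f))) = 3 * f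
  te6 : ∀ (K : Type) [Field K] [Fintype K] (p f : ℕ) [Fact p.Prime] [CharP K p],
    Fintype.card K = p ^ (2 * f) → 1 ≤ f →
    Nat.card (Cfsg.Out ↥(Cfsg.Lie.twistedE6 K (p ^ f))) = 2 * Nat.gcd 3 (p ^ f + 1) * f

/-- field with its characteristic -/
theorem exists_char (F : Type) [Field F] [Fintype F] : ∃ (r f : ℕ) (_ : Fact r.Prime) (_ : CharP F r), 1 ≤ f ∧
    Fintype.card F = r ^ f := by
  obtain ⟨p, hp⟩ := CharP.exists F
  obtain ⟨n, hpp, hcard⟩ := FiniteField.card F p
  exact ⟨p, n, ⟨hpp⟩, hp, n.2, hcard⟩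

/-! ### Alternating groups -/

theorem crit_alt {n : ℕ} (hn : 5 ≤ n) : Crit ↥(alternatingGroup (Fin n)) := by
  obtain ⟨p, hp, h1, h2⟩ := Nat.exists_prime_lt_and_le_two_mul (n / 2) (by omega)
  have hpn : p ≤ n := by omega
  have hn2 : n < 2 * p := by omega
  have hp3 : 3 ≤ p := by omega
  have := Fact.mk hp
  have hnt : Nontrivial (Fin n) := Fin.nontrivial_iff_two_le.2 (by omega)
  have hcard : 2 * Nat.card (alternatingGroup (Fin n)) = n.factorial := by
    rw [two_mul_nat_card_alternatingGroup, Nat.card_perm, Nat.card_fin]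
  refine ⟨p, hp, ?_, Or.inl ?_⟩
  · have h3 : p ∣ 2 * Nat.card (alternatingGroup (Fin n)) := by
      rw [hcard]; exact hp.dvd_factorial.mpr hpn
    rw [hp.dvd_mul] at h3
    rcases h3 with h3 | h3
    · have := Nat.le_of_dvd two_pos h3
      omega
    · exact h3
  · intro h3
    have h4 : p ^ 2 ∣ n.factorial := by
      rw [← hcard]; exact Dvd.dvd.mul_left h3 2
    have h5 : 2 ≤ n.factorial.factorization p :=
      (hp.pow_dvd_iff_le_factorization (Nat.factorial_ne_zero n)).mp h4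
    rw [Nat.factorization_factorial hp (b := 2) (Nat.log_lt_of_lt_pow (by omega) (by nlinarith))] at h5
    have h6 : n / p = 1 := by
      rw [Nat.div_eq_iff (by omega)]
      omega
    rw [show Finset.Ico 1 2 = {1} from rfl, Finset.sum_singleton, pow_one, h6] at h5
    omega

/-! ### Sporadic groups and the Tits group -/

theorem spor_prime : ∀ x ∈ Cfsg.Agent.OrdDiv.spor, ∃ p ∈ [5, 7, 11, 13, 17, 19], x.2 % p = 0 ∧ x.2 % (p ^ 2) ≠ 0 := by
  decide +kernel

theorem crit_spor (T : Cfsg.Agent.OrdDiv.OrderTable.{u}) {K : Type u} [Group K] (g : Cfsg.Agent.OrdDiv.Grp)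
    (hg : g ∈ Cfsg.Agent.OrdDiv.spor.map fun x => x.1) (hK : Cfsg.Agent.OrdDiv.Real g K) : Crit K := by
  obtain ⟨x, hx, rfl⟩ := List.mem_map.mp hg
  have h1 := T.spor K x hx hK
  obtain ⟨p, hp, h2, h3⟩ := spor_prime x hx
  have hpp : p.Prime := by
    simp only [List.mem_cons, List.not_mem_nil, or_false] at hp
    rcases hp with rfl | rfl | rfl | rfl | rfl | rfl <;> norm_num
  refine ⟨p, hpp, ?_, Or.inl ?_⟩
  · rw [h1]; exact Nat.dvd_of_mod_eq_zero h2
  · rw [h1]
    intro h4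
    exact h3 (Nat.mod_eq_zero_of_dvd h4)

/-! ### Exceptional groups -/

section

variable (T : Cfsg.Agent.OrdDiv.OrderTable.{u}) (O : OutTable)

include T O

theorem crit_g2 (F : Type) [Field F] [Fintype F] (h3 : 3 ≤ Fintype.card F) : Crit ↥(Lie.chevG2.group F) := by
  obtain ⟨r, f, hr, hc, hf, hF⟩ := exists_char F
  have ho := O.g2 F r f hF (hF ▸ h3)
  have hcard := T.g2 F
  rw [hF] at hcard h3
  obtain ⟨p, h⟩ := exists_zs hr.out hf (e := 6) (by omega) (by
    rintro ⟨rfl, h6⟩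
    obtain rfl : f = 1 := by omega
    norm_num at h3)
  refine crit_of_out h.prime h.five ?_ ?_
  · rw [hcard]
    exact Dvd.dvd.mul_left ((h.iff 6).mpr dvd_rfl) _
  · rw [ho]
    split_ifs
    · exact h.ndvd_mul (h.not_dvd_of_le two_pos (by norm_num)) h.ndvd
    · exact h.ndvd

theorem crit_f4 (F : Type) [Field F] [Fintype F] : Crit ↥(Lie.chevF4.group F) := by
  obtain ⟨r, f, hr, hc, hf, hF⟩ := exists_char F
  have ho := O.f4 F r f hF
  have hcard := T.f4 F _ hF
  obtain ⟨p, h⟩ := exists_zs hr.out hf (e := 4) (by omega) (by omega)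
  refine crit_of_out h.prime h.five ?_ ?_
  · rw [hcard]
    exact Dvd.dvd.mul_right (Dvd.dvd.mul_left ((h.iff 8).mpr (by norm_num)) _) _
  · rw [ho]
    exact h.ndvd_mul (fun h1 => h.not_dvd_of_le two_pos (by norm_num) (h1.trans (Nat.gcd_dvd_left _ _))) h.ndvd

theorem crit_e6 (F : Type) [Field F] [Fintype F] : Crit ↥(Lie.chevE6.group F) := by
  obtain ⟨r, f, hr, hc, hf, hF⟩ := exists_char F
  have ho := O.e6 F r f hF
  have hcard := T.e6 F _ hF
  obtain ⟨p, h⟩ := exists_zs hr.out hf (e := 4) (by omega) (by omega)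
  refine crit_of_out h.prime h.five ?_ ?_
  · refine h.dvd_of_mul (h.not_dvd_gcd (by norm_num) 3) ?_
    rw [hcard]
    exact Dvd.dvd.mul_right (Dvd.dvd.mul_right (Dvd.dvd.mul_left ((h.iff 8).mpr (by norm_num)) _) _) _
  · rw [ho]
    exact h.ndvd_mul (h.ndvd_mul (h.not_dvd_of_le two_pos (by norm_num)) (h.not_dvd_gcd (by norm_num) 3)) h.ndvd

theorem crit_e7 (F : Type) [Field F] [Fintype F] : Crit ↥(Lie.chevE7.group F) := by
  obtain ⟨r, f, hr, hc, hf, hF⟩ := exists_char F
  have ho := O.e7 F r f hF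
  have hcard := T.e7 F _ hF
  obtain ⟨p, h⟩ := exists_zs hr.out hf (e := 4) (by omega) (by omega)
  refine crit_of_out h.prime h.five ?_ ?_
  · refine h.dvd_of_mul (h.not_dvd_gcd (by norm_num) 2) ?_
    rw [hcard]
    exact Dvd.dvd.mul_right (Dvd.dvd.mul_right (Dvd.dvd.mul_right (Dvd.dvd.mul_right
      (Dvd.dvd.mul_left ((h.iff 8).mpr (by norm_num)) _) _) _) _) _
  · rw [ho]
    exact h.ndvd_mul (h.not_dvd_gcd (by norm_num) 2) h.ndvd

theorem crit_e8 (F : Type) [Field F] [Fintype F] : Crit ↥(Lie.chevE8.group F) := by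
  obtain ⟨r, f, hr, hc, hf, hF⟩ := exists_char F
  have ho := O.e8 F r f hF
  have hcard := T.e8 F _ hF
  obtain ⟨p, h⟩ := exists_zs hr.out hf (e := 4) (by omega) (by omega)
  refine crit_of_out h.prime h.five ?_ ?_
  · rw [hcard]
    exact Dvd.dvd.mul_right (Dvd.dvd.mul_right (Dvd.dvd.mul_right (Dvd.dvd.mul_right (Dvd.dvd.mul_right
      (Dvd.dvd.mul_right (Dvd.dvd.mul_left ((h.iff 8).mpr (by norm_num)) _) _) _) _) _) _) _
  · rw [ho]
    exact h.ndvd

theorem crit_te6 (K : Type) [Field K] [Fintype K] (q : ℕ) (hq : IsPrimePow q) (hK : Fintype.card K = q ^ 2) :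
    Crit ↥(Lie.twistedE6 K q) := by
  obtain ⟨r, f, hr, hc, hf, hF⟩ := exists_char K
  obtain ⟨r', f', hr', hf', rfl⟩ := (isPrimePow_nat_iff _).mp hq
  have hrr : r' = r := by
    have h1 : r' ∣ r ^ f := by
      rw [← hF, hK, ← pow_mul]
      exact dvd_pow_self _ (by omega)
    exact (Nat.prime_dvd_prime_iff_eq hr' hr.out).mp (hr'.dvd_of_dvd_pow h1)
  subst hrr
  have ho := O.te6 K r' f' (by rw [hK, ← pow_mul, mul_comm]) hf'
  have hcard := T.te6 K (r' ^ f') hq hK
  obtain ⟨p, h⟩ := exists_zs hr' hf' (e := 4) (by omega) (by omega)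
  refine crit_of_out h.prime h.five ?_ ?_
  · refine h.dvd_of_mul (h.not_dvd_gcd' (by norm_num) 3) ?_
    rw [hcard]
    exact Dvd.dvd.mul_right (Dvd.dvd.mul_right (Dvd.dvd.mul_left ((h.iff 8).mpr (by norm_num)) _) _) _
  · rw [ho]
    exact h.ndvd_mul (h.ndvd_mul (h.not_dvd_of_le two_pos (by norm_num)) (h.not_dvd_gcd' (by norm_num) 3)) h.ndvd

theorem crit_td4 (K : Type) [Field K] [Fintype K] (q : ℕ) (hq : IsPrimePow q) (hK : Fintype.card K = q ^ 3) :
    Crit ↥(Lie.twistedD4 K q) := by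
  obtain ⟨r, f, hr, hc, hf, hF⟩ := exists_char K
  obtain ⟨r', f', hr', hf', rfl⟩ := (isPrimePow_nat_iff _).mp hq
  have hrr : r' = r := by
    have h1 : r' ∣ r ^ f := by
      rw [← hF, hK, ← pow_mul]
      exact dvd_pow_self _ (by omega)
    exact (Nat.prime_dvd_prime_iff_eq hr' hr.out).mp (hr'.dvd_of_dvd_pow h1)
  subst hrr
  have ho := O.td4 K r' f' (by rw [hK, ← pow_mul, mul_comm]) hf'
  have hcard := T.td4 K (r' ^ f') hq hK
  obtain ⟨p, h⟩ := exists_zs hr' hf' (e := 12) (by omega) (by omega)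
  refine crit_of_out h.prime h.five ?_ ?_
  · rw [hcard]
    apply Dvd.dvd.mul_left
    have h1 : p ∣ (r' ^ f') ^ 12 - 1 := (h.iff 12).mpr dvd_rfl
    have h2 : ∀ x : ℕ, x ^ 12 - 1 = (x ^ 4 - 1) * (x ^ 8 + x ^ 4 + 1) := by
      intro x
      rcases Nat.eq_zero_or_pos x with rfl | hx
      · norm_num
      · have h3 : 1 ≤ x ^ 4 := Nat.one_le_pow _ _ hx
        have h4 : 1 ≤ x ^ 12 := Nat.one_le_pow _ _ hx
        zify [h3, h4]
        ring
    rw [h2, h.prime.dvd_mul] at h1
    rcases h1 with h1 | h1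
    · exact absurd ((h.iff 4).mp h1) (by norm_num)
    · exact h1
  · rw [ho]
    exact h.ndvd_mul (h.not_dvd_of_le (by norm_num) (by norm_num)) h.ndvd

theorem crit_sz (F : Type) [Field F] [Fintype F] (m : ℕ) (hm : 1 ≤ m) (hF : Fintype.card F = 2 ^ (2 * m + 1)) :
    Crit ↥(Lie.Sz F (2 ^ (m + 1))) := by
  have ho := O.sz F m hm hF
  have hcard := T.sz F m hm hF
  obtain ⟨p, h⟩ := exists_zs Nat.prime_two (f := 2 * m + 1) (by omega) (e := 4) (by omega) (by omega)
  refine crit_of_out h.prime h.five ?_ ?_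
  · rw [hcard]
    exact Dvd.dvd.mul_left (h.dvd_add (by norm_num) (by norm_num)) _
  · rw [ho]
    exact h.ndvd

theorem crit_ree (F : Type) [Field F] [Fintype F] (m : ℕ) (hm : 1 ≤ m) (hF : Fintype.card F = 3 ^ (2 * m + 1)) :
    Crit ↥(Lie.twistedG2 F (3 ^ m)) := by
  have ho := O.ree F m hm hF
  have hcard := T.ree F m hm hF
  obtain ⟨p, h⟩ := exists_zs Nat.prime_three (f := 2 * m + 1) (by omega) (e := 6) (by omega) (by omega)
  refine crit_of_out h.prime h.five ?_ ?_
  · rw [hcard]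
    exact Dvd.dvd.mul_left (h.dvd_add (by norm_num) (by norm_num)) _
  · rw [ho]
    exact h.ndvd

theorem crit_tf4 (F : Type) [Field F] [Fintype F] (m : ℕ) (hm : 1 ≤ m) (hF : Fintype.card F = 2 ^ (2 * m + 1)) :
    Crit ↥(Lie.twistedF4 F (2 ^ m)) := by
  have ho := O.tf4 F m hm hF
  have hcard := T.tf4 F m hm hF
  obtain ⟨p, h⟩ := exists_zs Nat.prime_two (f := 2 * m + 1) (by omega) (e := 4) (by omega) (by omega)
  refine crit_of_out h.prime h.five ?_ ?_
  · rw [hcard]
    exact Dvd.dvd.mul_right (Dvd.dvd.mul_left ((h.iff 4).mpr dvd_rfl) _) _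
  · rw [ho]
    exact h.ndvd

/-- **The criterion for the known simple groups** -/
theorem crit_known {K : Type u} [Group K] [Finite K] (hk : IsKnownSimple' K) (hK : IsSimpleGroup K)
    (hna : ¬ ∀ a b : K, a * b = b * a) : Crit K := by
  have key : ∀ g, g ∈ (Cfsg.Agent.OrdDiv.spor.map fun x => x.1) → Cfsg.Agent.OrdDiv.Real g K → Crit K :=
    fun g hg hr => crit_spor T g hg hr
  rcases hk with h | h | h | h | h | h | h | h | h | h
  · exfalso
    have : Fact (Nat.card K).Prime := ⟨h⟩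
    have : IsCyclic K := isCyclic_of_prime_card (p := Nat.card K) rfl
    exact hna fun a b => (IsCyclic.isMulCommutative (α := K)).is_comm.comm a b
  · obtain ⟨n, hn, ⟨e⟩⟩ := h
    exact Crit.congr e (crit_alt hn)
  · obtain ⟨F, _, _, n, hn, hn2, ⟨e⟩⟩ := h
    exact crit_of_model hK hna e (crit_psl hn hn2)
  · obtain ⟨F, _, _, n, hn, hn2, ⟨e⟩⟩ := h
    exact crit_of_model hK hna e (crit_psp hn hn2)
  · obtain ⟨F, _, _, n, q, hF, hn, hn2, ⟨e⟩⟩ := h
    exact crit_of_model hK hna e (crit_psu hF hn hn2)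
  · obtain ⟨F, _, _, n, hn, ho, ⟨e⟩⟩ := h
    exact crit_of_model hK hna e (crit_oodd hn ho)
  · obtain ⟨F, _, _, n, hn, ⟨e⟩⟩ := h
    exact crit_of_model hK hna e (crit_oplus hn)
  · obtain ⟨F, _, _, n, a, b, hn, hab, ⟨e⟩⟩ := h
    exact crit_of_model hK hna e (crit_ominus hn hab)
  · rcases h with h | h | h | h | h | h | h | h | h | h | h
    · obtain ⟨F, _, _, hq, ⟨e⟩⟩ := h
      exact Crit.congr e (crit_g2 T O F hq)
    · obtain ⟨F, _, _, ⟨e⟩⟩ := h
      exact Crit.congr e (crit_f4 T O F)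
    · obtain ⟨F, _, _, ⟨e⟩⟩ := h
      exact Crit.congr e (crit_e6 T O F)
    · obtain ⟨F, _, _, ⟨e⟩⟩ := h
      exact Crit.congr e (crit_e7 T O F)
    · obtain ⟨F, _, _, ⟨e⟩⟩ := h
      exact Crit.congr e (crit_e8 T O F)
    · obtain ⟨F, _, _, q, hq, hF, ⟨e⟩⟩ := h
      exact Crit.congr e (crit_te6 T O F q hq hF)
    · obtain ⟨F, _, _, q, hq, hF, ⟨e⟩⟩ := h
      exact Crit.congr e (crit_td4 T O F q hq hF)
    · obtain ⟨F, _, _, m, hm, hF, ⟨e⟩⟩ := h
      exact Crit.congr e (crit_sz T O F m hm hF)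
    · obtain ⟨F, _, _, m, hm, hF, ⟨e⟩⟩ := h
      exact Crit.congr e (crit_ree T O F m hm hF)
    · obtain ⟨F, _, _, m, hm, hF, ⟨e⟩⟩ := h
      exact Crit.congr e (crit_tf4 T O F m hm hF)
    · exact key .tits (by decide) h
  · rcases h with h | h | h | h | h | h | h | h | h | h | h | h | h | h | h | h | h | h | h | h | h | h | h | h | h | h
    · exact key .m11 (by decide) h
    · exact key .m12 (by decide) h
    · exact key .m22 (by decide) h
    · exact key .m23 (by decide) h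
    · exact key .m24 (by decide) h
    · exact key .j1 (by decide) h
    · exact key .j2 (by decide) h
    · exact key .j3 (by decide) h
    · exact key .j4 (by decide) h
    · exact key .co1 (by decide) h
    · exact key .co2 (by decide) h
    · exact key .co3 (by decide) h
    · exact key .mcl (by decide) h
    · exact key .hs (by decide) h
    · exact key .suz (by decide) h
    · exact key .he (by decide) h
    · exact key .ru (by decide) h
    · exact key .on (by decide) h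
    · exact key .ly (by decide) h
    · exact key .fi22 (by decide) h
    · exact key .fi23 (by decide) h
    · exact key .fi24 (by decide) h
    · exact key .hn (by decide) h
    · exact key .th (by decide) h
    · exact key .b (by decide) h
    · exact key .m (by decide) h

end

end Cfsg.Agent.H484.SylNorm
end

-- part: H484/CritFinal
section
/-!
# The orders of the outer automorphism groups of the exceptional groups (helper484)
-/

set_option autoImplicit false

namespace Cfsg.Agent.H484.SylNorm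

theorem outTable : OutTable where
  g2 F _ _ p f _ _ hF hq := Cfsg.Agent.S2121.result p f hF hq
  f4 F _ _ p f _ _ hF := Cfsg.Agent.S2122.result p f hF
  e6 F _ _ p f _ _ hF := Cfsg.Agent.S2123.result p f hF
  e7 F _ _ p f _ _ hF := Cfsg.Agent.S2124.result p f hF
  e8 F _ _ p f _ _ hF := Cfsg.Agent.S2125.result p f hF
  sz F _ _ m hm hF := Cfsg.Agent.S2126.result hm hF
  ree K _ _ m hm hK := Cfsg.Agent.S2127.result hm hK
  tf4 K _ _ m hm hK := Cfsg.Agent.S2128.result hm hK
  td4 K _ _ p f _ _ hK hf := Cfsg.Agent.S2129.result p f hK hf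
  te6 K _ _ p f _ _ hK hf := Cfsg.Agent.S2130.result p f hK hf

end Cfsg.Agent.H484.SylNorm
end
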